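import Cfsg.Agent.Lib.LocalEvenB.ExtremelyClosed.Moves

/-!
# Extremely closed abelian `p`-subgroups: `G = N_G(H) O_{p'}(G)`
-/

set_option autoImplicit false

namespace CfsgLib.LocalEvenB.ExtClosed

open Cfsg Subgroup
open scoped Classical

universe u

variable {p : ℕ} [Fact p.Prime]

theorem Minimal.exists_triple {G : Type*} [Group G] [Fintype G] {H : Subgroup G}
    (hm : Minimal p H) (hmove : ∀ h ∈ hsharp H,
      ∃ n ∈ Subgroup.normalizer (H : Set G), n * h * n⁻¹ ≠ h) :
    ∃ g₁ g₂ : G, pairGrp H g₁ ⊔ pairGrp H g₂ = ⊤ := by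
  obtain ⟨x, hx, hx1⟩ := (Subgroup.ne_bot_iff_exists_ne_one.1 hm.ne_bot).elim fun a ha =>
    (⟨(a : G), a.2, fun h => ha (Subtype.ext h)⟩ : ∃ x, x ∈ H ∧ x ≠ 1)
  let Rel : G → G → Prop := fun y z => (orderOf (y⁻¹ * z)).Coprime p
  have hsymm : ∀ y z, Rel y z → Rel z y := fun y z h => by
    show (orderOf (z⁻¹ * y)).Coprime p
    rw [show z⁻¹ * y = (y⁻¹ * z)⁻¹ by group, orderOf_inv]
    exact h
  have hconj : ∀ c y z, Rel y z → Rel (c * y * c⁻¹) (c * z * c⁻¹) := fun c y z h => by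
    show (orderOf _).Coprime p
    rw [show (c * y * c⁻¹)⁻¹ * (c * z * c⁻¹) = MulAut.conj c (y⁻¹ * z) by simp [mul_assoc],
      MulEquiv.orderOf_eq]
    exact h
  by_cases htrans : ∀ a b c : G, Rel (a * x * a⁻¹) (b * x * b⁻¹) →
      Rel (b * x * b⁻¹) (c * x * c⁻¹) → Rel (a * x * a⁻¹) (c * x * c⁻¹)
  · exfalso
    let K : Subgroup G :=
      { carrier := {g | ∀ a : G, Rel (g * (a * x * a⁻¹) * g⁻¹) (a * x * a⁻¹)}
        one_mem' := fun a => by
          show (orderOf _).Coprime p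
          rw [one_mul, inv_one, mul_one, inv_mul_cancel, orderOf_one]
          exact Nat.coprime_one_left p
        mul_mem' := fun {g k} hg hk a => by
          have h1 : Rel (g * k * (a * x * a⁻¹) * (g * k)⁻¹) (g * (a * x * a⁻¹) * g⁻¹) := by
            rw [show g * k * (a * x * a⁻¹) * (g * k)⁻¹ = g * (k * (a * x * a⁻¹) * k⁻¹) * g⁻¹ by group]
            exact hconj g _ _ (hk a)
          have h2 := htrans (g * k * a) (g * a) a
          rw [show g * k * a * x * (g * k * a)⁻¹ = g * k * (a * x * a⁻¹) * (g * k)⁻¹ by group,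
            show g * a * x * (g * a)⁻¹ = g * (a * x * a⁻¹) * g⁻¹ by group] at h2
          exact h2 h1 (hg a)
        inv_mem' := fun {g} hg a => by
          have h := hconj g⁻¹ _ _ (hg a)
          rw [show g⁻¹ * (g * (a * x * a⁻¹) * g⁻¹) * g⁻¹⁻¹ = a * x * a⁻¹ by group] at h
          exact hsymm _ _ h }
    have hKn : K.Normal := ⟨fun g hg c a => by
      have h := hconj c _ _ (hg (c⁻¹ * a))
      rw [show c * (c⁻¹ * a * x * (c⁻¹ * a)⁻¹) * c⁻¹ = a * x * a⁻¹ by group,
        show c * (g * (c⁻¹ * a * x * (c⁻¹ * a)⁻¹) * g⁻¹) * c⁻¹ =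
          c * g * c⁻¹ * (a * x * a⁻¹) * (c * g * c⁻¹)⁻¹ by group] at h
      exact h⟩
    have hHK : H ≤ K := fun h hh a => by
      obtain ⟨e, he, n, hn, hen⟩ := hm.hyp.exists_img a hx
      have h1 : Rel e (a * x * a⁻¹) := he.2
      have h2 : Rel (h * (a * x * a⁻¹) * h⁻¹) e := by
        have h3 := hconj h _ _ (hsymm _ _ h1)
        rwa [(hm.hyp.commute hh he.1).eq, mul_inv_cancel_right] at h3
      have h4 := htrans (h * a) n a
      rw [show h * a * x * (h * a)⁻¹ = h * (a * x * a⁻¹) * h⁻¹ by group, ← hen] at h4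
      exact h4 h2 h1
    have htop : K = ⊤ := top_le_iff.1 (hm.gen ▸ Subgroup.normalClosure_le_normal hHK)
    obtain ⟨n, hn, hne⟩ := hmove x (mem_hsharp.2 ⟨hx, hx1⟩)
    have h := (htop ▸ Subgroup.mem_top n : n ∈ K) 1
    simp only [one_mul, inv_one, mul_one] at h
    exact hne (inv_mul_eq_one.1 (hm.hyp.eq_one_of_coprime
      (mul_mem (inv_mem ((Subgroup.mem_normalizer_iff.1 hn x).1 hx)) hx) h))
  · push Not at htrans
    obtain ⟨a, b, c, hab, hbc, hac⟩ := htrans
    refine ⟨b⁻¹ * a, b⁻¹ * c, ?_⟩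
    set g₁ := b⁻¹ * a with hg₁
    set g₂ := b⁻¹ * c with hg₂
    have e0 : b⁻¹ * (b * x * b⁻¹) * b⁻¹⁻¹ = x := by group
    have e1 : b⁻¹ * (a * x * a⁻¹) * b⁻¹⁻¹ = g₁ * x * g₁⁻¹ := by rw [hg₁]; group
    have e2 : b⁻¹ * (c * x * c⁻¹) * b⁻¹⁻¹ = g₂ * x * g₂⁻¹ := by rw [hg₂]; group
    have r1 : Rel x (g₁ * x * g₁⁻¹) := by
      have := hconj b⁻¹ _ _ (hsymm _ _ hab); rwa [e0, e1] at this
    have r2 : Rel x (g₂ * x * g₂⁻¹) := by
      have := hconj b⁻¹ _ _ hbc; rwa [e0, e2] at this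
    have r3 : ¬ Rel (g₁ * x * g₁⁻¹) (g₂ * x * g₂⁻¹) := fun h => hac (by
      have := hconj b _ _ h
      rwa [← e1, ← e2, show b * (b⁻¹ * (a * x * a⁻¹) * b⁻¹⁻¹) * b⁻¹ = a * x * a⁻¹ by group,
        show b * (b⁻¹ * (c * x * c⁻¹) * b⁻¹⁻¹) * b⁻¹ = c * x * c⁻¹ by group] at this)
    by_contra hne
    set L := pairGrp H g₁ ⊔ pairGrp H g₂ with hL
    have hHL : H ≤ L := le_sup_left.trans le_sup_left
    set R := (pPrimeCore p L).map L.subtype with hR
    have hRL : R ≤ L := Subgroup.map_subtype_le _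
    have hLR : L ≤ Subgroup.normalizer (R : Set G) := le_normalizer_map_subtype _ _
    have hmem : ∀ {g : G}, pairGrp H g ≤ L → ∀ h ∈ H, g * h * g⁻¹ ∈ H ⊔ R := by
      intro g hg h hh
      obtain ⟨o, ho, hn⟩ := hm.hyp.exists_translate g
      have h1 := (Subgroup.mem_normalizer_iff.1 hn h).1 hh
      obtain ⟨h', hh', r, hr, he⟩ :=
        mem_mul_of_conj hm.loc hne hHL (hg (pairKer_le H g ho)) h1
      rw [show g * h * g⁻¹ = o * (o⁻¹ * g * h * (o⁻¹ * g)⁻¹) * o⁻¹ by group, he]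
      exact mul_mem (mem_sup_left hh') (mem_sup_right hr)
    have hLH : L ≤ H ⊔ R := by
      refine sup_le (sup_le le_sup_left ?_) (sup_le le_sup_left ?_)
      · rintro _ ⟨h, hh, rfl⟩; exact hmem (g := g₁) le_sup_left h hh
      · rintro _ ⟨h, hh, rfl⟩; exact hmem (g := g₂) le_sup_right h hh
    have hin : ∀ y ∈ L, (orderOf y).Coprime p → y ∈ R := by
      intro y hy hcop
      obtain ⟨h, hh, r, hr, rfl⟩ := (Core.mem_sup_iff_mul (hHL.trans hLR)).1 (hLH hy)
      suffices h = 1 by rwa [this, one_mul]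
      let q := QuotientGroup.mk' (pPrimeCore p L)
      have hq : q ⟨h * r, hy⟩ = q ⟨h, hHL hh⟩ := by
        obtain ⟨z, hz, rfl⟩ := hr
        simp only [Subgroup.subtype_apply]
        rw [show (⟨h * (z : G), hy⟩ : L) = ⟨h, hHL hh⟩ * z from Subtype.ext rfl, map_mul,
          show q z = 1 from (QuotientGroup.eq_one_iff z).2 hz, mul_one]
      obtain ⟨i, hi⟩ := hm.hyp.exists_orderOf hh
      have h2 : q ⟨h, hHL hh⟩ = 1 := by
        refine orderOf_eq_one_iff.1 (Nat.eq_one_of_dvd_coprimes (hcop.pow_right i) ?_ ?_)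
        · rw [← hq]
          exact (orderOf_map_dvd q _).trans (dvd_of_eq (Subgroup.orderOf_mk _ hy))
        · exact (orderOf_map_dvd q _).trans (dvd_of_eq ((Subgroup.orderOf_mk _ _).trans hi))
      exact hm.hyp.eq_one_of_coprime hh ((Core.coprime_card_pPrimeCore p L).coprime_dvd_left (by
        have := Subgroup.orderOf_dvd_natCard _ ((QuotientGroup.eq_one_iff _).1 h2)
        rwa [Subgroup.orderOf_mk] at this))
    have hy₁ : g₁ * x * g₁⁻¹ ∈ L := mem_sup_left (conj_mem_pairGrp hx g₁)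
    have hy₂ : g₂ * x * g₂⁻¹ ∈ L := mem_sup_right (conj_mem_pairGrp hx g₂)
    refine r3 ?_
    show (orderOf _).Coprime p
    have h1 := hin _ (mul_mem (inv_mem (hHL hx)) hy₁) r1
    have h2 := hin _ (mul_mem (inv_mem (hHL hx)) hy₂) r2
    have h3 : (g₁ * x * g₁⁻¹)⁻¹ * (g₂ * x * g₂⁻¹) ∈ R := by
      rw [show (g₁ * x * g₁⁻¹)⁻¹ * (g₂ * x * g₂⁻¹) =
        (x⁻¹ * (g₁ * x * g₁⁻¹))⁻¹ * (x⁻¹ * (g₂ * x * g₂⁻¹)) by group]
      exact mul_mem (inv_mem h1) h2
    refine (Core.coprime_card_pPrimeCore p L).coprime_dvd_left ?_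
    obtain ⟨z, hz, he⟩ := h3
    rw [← he, Subgroup.subtype_apply, Subgroup.orderOf_coe]
    exact Subgroup.orderOf_dvd_natCard _ hz

/-- There is no minimal configuration. -/
theorem Minimal.elim {G : Type*} [Group G] [Fintype G] {H : Subgroup G} (hm : Minimal p H) :
    False := by
  obtain ⟨M, hM⟩ := ZStar.exists_isPModular (Fact.out : p.Prime)
  have := hM.2.1.isPrime
  have hmove : ∀ h ∈ hsharp H, ∃ n ∈ Subgroup.normalizer (H : Set G), n * h * n⁻¹ ≠ h :=
    fun h hh => hm.exists_move hM hh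
  obtain ⟨g₁, g₂, hgen⟩ := hm.exists_triple hmove
  obtain ⟨χ, hχ, hne, D, W, -, hD1, hW, hlt⟩ := hm.exists_char hM hmove
  obtain ⟨n, ρ, -, hρ, -⟩ := CharDegree.exists_rep χ
  have f1 := hm.fixed_pair hM hχ ρ hρ hW g₁
  have f2 := hm.fixed_pair hM hχ ρ hρ hW g₂
  have hH := sum_subgroup_char ρ H
  rw [hρ, sum_subgroup_eq_one_add, hD1, hW] at hH
  set fH := Module.finrank ℂ (Representation.invariants (ρ.comp H.subtype))
  have hH' : (D : ℤ) + W = ((hsharp H).card + 1) * (fH : ℤ) := by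
    apply Int.cast_injective (α := ℂ)
    rw [← card_hsharp_add_one] at hH
    push_cast at hH ⊢
    exact hH
  have hpos : Module.finrank ℂ (Representation.invariants (ρ.comp H.subtype)) <
      Module.finrank ℂ (Representation.invariants (ρ.comp (pairGrp H g₁).subtype)) +
      Module.finrank ℂ (Representation.invariants (ρ.comp (pairGrp H g₂).subtype)) := by
    show fH < _
    set a : ℤ := ((hsharp H).card : ℤ)
    by_contra hle
    push Not at hle
    have hle' := (Int.ofNat_le.2 hle)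
    push_cast at hle'
    have ha : 0 ≤ a := Int.natCast_nonneg _
    have h1 := mul_le_mul_of_nonneg_left hle' ha
    have h2 := mul_le_mul_of_nonneg_left (f1) (show (0 : ℤ) ≤ a + 1 by linarith)
    have h3 := mul_le_mul_of_nonneg_left (f2) (show (0 : ℤ) ≤ a + 1 by linarith)
    have h4 := mul_le_mul_of_nonneg_left h1 (show (0 : ℤ) ≤ a + 1 by linarith)
    have h5 : a * ((a + 1) * (fH : ℤ)) = a * (D + W) := by rw [hH']
    nlinarith
  have hne0 := finrank_inf_pos (invariants_comp_mono ρ (le_sup_left : H ≤ pairGrp H g₁))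
    (invariants_comp_mono ρ (le_sup_left : H ≤ pairGrp H g₂)) hpos
  obtain ⟨v, hv, hv0⟩ := Submodule.exists_mem_ne_zero_of_ne_bot hne0
  have hfixall : ∀ g : G, ρ g v = v := by
    let S : Subgroup G :=
      { carrier := {g | ρ g v = v}
        one_mem' := by simp
        mul_mem' := fun {a b} ha hb => by
          show ρ (a * b) v = v
          rw [map_mul, Module.End.mul_apply, (hb : ρ b v = v), (ha : ρ a v = v)]
        inv_mem' := fun {a} ha => by
          show ρ a⁻¹ v = v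
          conv_lhs => rw [← (ha : ρ a v = v)]
          rw [← Module.End.mul_apply, ← map_mul, inv_mul_cancel, map_one, Module.End.one_apply] }
    have hS : pairGrp H g₁ ⊔ pairGrp H g₂ ≤ S :=
      sup_le (fun g hg => hv.1 ⟨g, hg⟩) (fun g hg => hv.2 ⟨g, hg⟩)
    exact fun g => hS (hgen ▸ Subgroup.mem_top g)
  -- the character is orthogonal to the trivial one
  have h0 : Cfsg.classInner (χ : G → ℂ) (Char.trivChar G : G → ℂ) = 0 :=
    Char.classInner_irr_of_ne hne
  rw [Cfsg.classInner] at h0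
  simp only [Char.trivChar_apply, map_one, mul_one] at h0
  have : Invertible (Nat.card G : ℂ) := invertibleOfNonzero (Nat.cast_ne_zero.2 Nat.card_pos.ne')
  have h1 := FDRep.average_char_eq_finrank_invariants (FDRep.of ρ)
  have h2 : (Module.finrank ℂ (Representation.invariants ρ) : ℂ) = 0 := by
    rw [← h0, ← hρ]
    exact h1.symm
  rw [Nat.cast_eq_zero] at h2
  exact hv0 ((Submodule.mem_bot ℂ).1 (Submodule.finrank_eq_zero.1 h2 ▸
    (hfixall : v ∈ Representation.invariants ρ)))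

section Induction

variable {G : Type u} [Group G] {H : Subgroup G}

omit [Fact p.Prime] in
/-- The hypotheses pass to subgroups. -/
theorem Hyp.subgroupOf (hH : Hyp p H) {L : Subgroup G} (hHL : H ≤ L) :
    Hyp p (H.subgroupOf L) := by
  refine ⟨hH.pgroup.comap_of_injective _ L.subtype_injective,
    ⟨⟨fun a b => Subtype.ext (Subtype.ext (hH.commute a.2 b.2).eq)⟩⟩, fun g => ?_⟩
  refine le_antisymm (fun k hk => ?_) (le_inf le_sup_left Subgroup.le_normalizer)
  have hmap : (pairGrp (H.subgroupOf L) g).map L.subtype ≤ pairGrp H (g : G) := by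
    rw [Subgroup.map_sup]
    refine sup_le_sup (Subgroup.map_subgroupOf_eq_of_le hHL).le ?_
    rintro _ ⟨_, ⟨h, hh, rfl⟩, rfl⟩
    exact ⟨h, hh, rfl⟩
  refine hH.mem_of_normalizes (g := (g : G)) (hmap ⟨k, hk.1, rfl⟩)
    (Subgroup.mem_normalizer_iff.2 fun y => ?_)
  constructor
  · intro hy
    exact (Subgroup.mem_normalizer_iff.1 hk.2 ⟨y, hHL hy⟩).1 hy
  · intro hy
    have hyL : y ∈ L := by
      have := L.mul_mem (L.mul_mem (L.inv_mem k.2) (hHL hy)) k.2
      simpa [mul_assoc] using this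
    exact (Subgroup.mem_normalizer_iff.1 hk.2 ⟨y, hyL⟩).2 hy

variable [Finite G]

/-- `N_K(HN) ≤ HN` in every pair group, for a normal `p'`-subgroup `N`. -/
theorem Hyp.mem_sup_of_normalizes (hH : Hyp p H) {N : Subgroup G} [hNn : N.Normal]
    (hN : (Nat.card N).Coprime p) {g k : G} (hk : k ∈ pairGrp H g)
    (hn : ∀ h ∈ H, k * h * k⁻¹ ∈ H ⊔ N) : k ∈ H ⊔ N := by
  obtain ⟨o, ho, h₀, hh₀, rfl⟩ := hH.decomp' hk
  set X := pairKer p H g ⊓ N with hX
  have hK := pairGrp_le_normalizer (p := p) H g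
  have hHX : H ≤ Subgroup.normalizer (X : Set G) := fun h hh =>
    Subgroup.mem_normalizer_iff.2 fun y =>
      ⟨fun hy => ⟨(Subgroup.mem_normalizer_iff.1 (hK (mem_sup_left hh)) y).1 hy.1,
        hNn.conj_mem y hy.2 h⟩,
      fun hy => ⟨(Subgroup.mem_normalizer_iff.1 (hK (mem_sup_left hh)) y).2 hy.1, by
        have := hNn.conj_mem _ hy.2 h⁻¹
        simpa [mul_assoc] using this⟩⟩
  have hfix : ∀ h ∈ H, o⁻¹ * (h * o * h⁻¹) ∈ X := by
    intro h hh
    have hoh : o * h * o⁻¹ ∈ H ⊔ N := by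
      have h1 := hn h hh
      rwa [show o * h₀ * h * (o * h₀)⁻¹ = o * (h₀ * h) * h₀⁻¹ * o⁻¹ by group,
        (hH.commute hh₀ hh).eq, show o * (h * h₀) * h₀⁻¹ * o⁻¹ = o * h * o⁻¹ by group] at h1
    obtain ⟨h', hh', m, hm, he⟩ := Subgroup.mem_sup_of_normal_right.1 hoh
    have hohO : h * o⁻¹ * h⁻¹ ∈ pairKer p H g :=
      (Subgroup.mem_normalizer_iff.1 (hK (mem_sup_left hh)) _).1 (inv_mem ho)
    have hcomm : o * (h * o⁻¹ * h⁻¹) ∈ pairKer p H g := mul_mem ho hohO
    have hmK : m ∈ pairKer p H g := by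
      refine hH.mem_pairKer ?_ (hN.coprime_dvd_left (Subgroup.orderOf_dvd_natCard _ hm))
      rw [show m = h'⁻¹ * (o * h * o⁻¹) by rw [← he]; group]
      exact mul_mem (inv_mem (mem_sup_left hh'))
        (mul_mem (mul_mem (pairKer_le H g ho) (mem_sup_left hh)) (inv_mem (pairKer_le H g ho)))
    have hhh : h' = h := by
      refine inv_mul_eq_one.1 (hH.eq_one_of_mem (g := g) (mul_mem (inv_mem hh') hh) ?_)
      rw [show h'⁻¹ * h = m * (o * (h⁻¹ * o⁻¹ * h)) by
        rw [show m = h'⁻¹ * (o * h * o⁻¹) by rw [← he]; group]; group]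
      refine mul_mem hmK (mul_mem ho ?_)
      have := (Subgroup.mem_normalizer_iff.1 (hK (mem_sup_left (inv_mem hh))) o⁻¹).1 (inv_mem ho)
      rwa [inv_inv] at this
    refine Subgroup.mem_inf.2 ⟨mul_mem (inv_mem ho)
      ((Subgroup.mem_normalizer_iff.1 (hK (mem_sup_left hh)) o).1 ho), ?_⟩
    subst hhh
    have h2 : o⁻¹ * (h' * o * h'⁻¹) = o⁻¹ * (h' * m⁻¹ * h'⁻¹) * o := by
      rw [show m = h'⁻¹ * (o * h' * o⁻¹) by rw [← he]; group]; group
    rw [h2]
    have := hNn.conj_mem _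
      (hNn.conj_mem _ (inv_mem hm) h') o⁻¹
    rwa [inv_inv] at this
  obtain ⟨i, hi⟩ := IsPGroup.iff_card.1 hH.pgroup
  have hcop : (Nat.card H).Coprime (Nat.card X) := by
    rw [hi]
    exact ((coprime_card_pairKer H g).coprime_dvd_left
      (Subgroup.card_dvd_of_le inf_le_left)).symm.pow_left i
  have hsolv : Group.IsSolvable H := Group.isSolvable_of_comm fun a b => hH.comm.is_comm.comm a b
  obtain ⟨n, hnX, hcen⟩ := Core.exists_centralizing_in_coset hHX hcop (Or.inl hsolv) hfix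
  have h1 : o * n = 1 := hH.eq_one_of_commute (mul_mem ho hnX.1) fun h hh =>
    (Subgroup.mem_centralizer_iff.1 hcen h hh)
  rw [eq_inv_of_mul_eq_one_left h1]
  exact mul_mem (inv_mem (mem_sup_right hnX.2)) (mem_sup_left hh₀)

omit [Fact p.Prime] [Finite G] in
/-- The hypotheses pass to quotients in which pair groups stay self-normalising. -/
theorem Hyp.map_mk (hH : Hyp p H) (N : Subgroup G) [N.Normal]
    (hkey : ∀ g k : G, k ∈ pairGrp H g → (∀ h ∈ H, k * h * k⁻¹ ∈ H ⊔ N) → k ∈ H ⊔ N) :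
    Hyp p (H.map (QuotientGroup.mk' N)) := by
  refine ⟨hH.pgroup.map _, ⟨⟨?_⟩⟩, fun q => ?_⟩
  · rintro ⟨_, a, ha, rfl⟩ ⟨_, b, hb, rfl⟩
    exact Subtype.ext (((hH.commute ha hb).map (QuotientGroup.mk' N)).eq)
  obtain ⟨g, rfl⟩ := QuotientGroup.mk'_surjective N q
  refine le_antisymm (fun k hk => ?_) (le_inf le_sup_left Subgroup.le_normalizer)
  have hmap : (pairGrp H g).map (QuotientGroup.mk' N) =
      pairGrp (H.map (QuotientGroup.mk' N)) (QuotientGroup.mk' N g) := by
    rw [pairGrp, pairGrp, Subgroup.map_sup, Subgroup.map_map, Subgroup.map_map]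
    congr 2
    -- the two composite maps agree definitionally
  obtain ⟨k', hk', rfl⟩ : k ∈ (pairGrp H g).map (QuotientGroup.mk' N) := hmap ▸ hk.1
  obtain ⟨h, hh, n, hn, rfl⟩ := Subgroup.mem_sup_of_normal_right.1 (hkey g k' hk' fun h hh => by
    obtain ⟨h', hh', he⟩ := (Subgroup.mem_normalizer_iff.1 hk.2 (QuotientGroup.mk' N h)).1
      ⟨h, hh, rfl⟩
    rw [← map_inv, ← map_mul, ← map_mul, QuotientGroup.mk'_eq_mk'] at he
    obtain ⟨z, hz, hze⟩ := he
    rw [← hze]
    exact mul_mem (mem_sup_left hh') (mem_sup_right hz))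
  refine ⟨h, hh, ?_⟩
  rw [map_mul, show QuotientGroup.mk' N n = 1 from (QuotientGroup.eq_one_iff n).2 hn, mul_one]

end Induction

theorem factor_aux : ∀ (m : ℕ) (G : Type u) [Group G] [Finite G] (H : Subgroup G),
    Nat.card G = m → Hyp p H → Subgroup.normalizer (H : Set G) ⊔ pPrimeCore p G = ⊤ := by
  intro m
  induction m using Nat.strong_induction_on with
  | _ m ih =>
  intro G _ _ H hcard hH
  have : Fintype G := Fintype.ofFinite G
  by_contra hne
  have hnn : ¬ H.Normal := fun h => hne (by rw [Subgroup.normalizer_eq_top, top_sup_eq])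
  have hloc : LocalFactor p H := by
    intro L hL hHL
    have hlt : Nat.card L < m := hcard ▸ lt_of_le_of_ne (Subgroup.card_le_card_group L)
      fun h => hL (Subgroup.eq_top_of_card_eq L h)
    have h := congrArg (Subgroup.map L.subtype) (ih _ hlt L (H.subgroupOf L) rfl (hH.subgroupOf hHL))
    rw [Subgroup.map_sup, ← MonoidHom.range_eq_map, Subgroup.range_subtype] at h
    refine h.ge.trans (sup_le_sup_right ?_ _)
    rintro _ ⟨k, hk, rfl⟩
    refine ⟨k.2, Subgroup.mem_normalizer_iff.2 fun y => ?_⟩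
    constructor
    · intro hy
      exact (Subgroup.mem_normalizer_iff.1 hk ⟨y, hHL hy⟩).1 hy
    · intro hy
      have hyL : y ∈ L := by
        have := L.mul_mem (L.mul_mem (L.inv_mem k.2) (hHL hy)) k.2
        simpa [mul_assoc] using this
      exact (Subgroup.mem_normalizer_iff.1 hk ⟨y, hyL⟩).2 hy
  -- the largest normal `p'`-subgroup is trivial
  have hO : pPrimeCore p G = ⊥ := by
    by_contra hO
    set O := pPrimeCore p G
    have hlt : Nat.card (G ⧸ O) < m := by
      rw [← hcard, Subgroup.card_eq_card_quotient_mul_card_subgroup O]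
      exact lt_mul_of_one_lt_right Nat.card_pos (O.one_lt_card_iff_ne_bot.2 hO)
    have hq := ih _ hlt (G ⧸ O) (H.map (QuotientGroup.mk' O)) rfl
      (hH.map_mk O fun g k hk hn =>
        hH.mem_sup_of_normalizes (Core.coprime_card_pPrimeCore p G) hk hn)
    rw [Core.pPrimeCore_quotient_pPrimeCore, sup_bot_eq] at hq
    have hHO : ∀ g : G, ∀ h ∈ H, g * h * g⁻¹ ∈ H ⊔ O := by
      intro g h hh
      have hgN : QuotientGroup.mk' O g ∈
          Subgroup.normalizer ((H.map (QuotientGroup.mk' O)) : Set (G ⧸ O)) :=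
        hq ▸ Subgroup.mem_top _
      obtain ⟨h', hh', he⟩ := (Subgroup.mem_normalizer_iff.1 hgN (QuotientGroup.mk' O h)).1
        ⟨h, hh, rfl⟩
      rw [← map_inv, ← map_mul, ← map_mul, QuotientGroup.mk'_eq_mk'] at he
      obtain ⟨z, hz, hze⟩ := he
      rw [← hze]
      exact mul_mem (mem_sup_left hh') (mem_sup_right hz)
    refine hne (top_le_iff.1 fun g _ => ?_)
    obtain ⟨o, ho, hn⟩ := hH.exists_translate g
    have hoHO : o ∈ H ⊔ O := by
      refine (sup_le le_sup_left ?_ : pairGrp H g ≤ H ⊔ O) (pairKer_le H g ho)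
      rintro _ ⟨h, hh, rfl⟩
      exact hHO g h hh
    obtain ⟨h', hh', z, hz, he⟩ := Subgroup.mem_sup_of_normal_right.1 hoHO
    have h1 : g = (h' * z * h'⁻¹) * (h' * (o⁻¹ * g)) := by rw [← he]; group
    rw [h1]
    exact mul_mem (mem_sup_right ((inferInstance : O.Normal).conj_mem z hz h'))
      (mem_sup_left (mul_mem (Subgroup.le_normalizer hh') hn))
  have hcent : ∀ t ∈ H, t ≠ 1 → Subgroup.centralizer ({t} : Set G) ≠ ⊤ := by
    intro t ht ht1 htop
    set Z := Subgroup.zpowers t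
    have hZc : Z ≤ Subgroup.center G := Subgroup.zpowers_le.2 (Subgroup.mem_center_iff.2 fun g =>
      Subgroup.mem_centralizer_singleton_iff.1 (htop ▸ Subgroup.mem_top g))
    have hZH : Z ≤ H := Subgroup.zpowers_le.2 ht
    have hZn : Z.Normal := ⟨fun z hz g => by
      rw [Subgroup.mem_center_iff.1 (hZc hz) g, mul_inv_cancel_right]; exact hz⟩
    have hlt : Nat.card (G ⧸ Z) < m := by
      rw [← hcard, Subgroup.card_eq_card_quotient_mul_card_subgroup Z]
      exact lt_mul_of_one_lt_right Nat.card_pos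
        (Z.one_lt_card_iff_ne_bot.2 fun h => ht1 (Subgroup.zpowers_eq_bot.1 h))
    have hq := ih _ hlt (G ⧸ Z) (H.map (QuotientGroup.mk' Z)) rfl
      (hH.map_mk Z fun g k hk hn => by
        rw [sup_eq_left.2 hZH] at hn ⊢
        refine hH.mem_of_normalizes hk (Subgroup.mem_normalizer_iff_map_conj_eq.2
          (Subgroup.eq_of_le_of_card_ge (by rintro _ ⟨x, hx, rfl⟩; exact hn x hx)
            (le_of_eq (Subgroup.card_map_of_injective (MulEquiv.injective _)).symm))))
    -- the preimage of `O_{p'}(G/Z)` is `Z`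
    have hbot : pPrimeCore p (G ⧸ Z) = ⊥ := by
      set N := (pPrimeCore p (G ⧸ Z)).comap (QuotientGroup.mk' Z) with hN
      have hZN : Z ≤ N := fun z hz => by
        rw [hN, Subgroup.mem_comap, show QuotientGroup.mk' Z z = 1 from
          (QuotientGroup.eq_one_iff z).2 hz]
        exact one_mem _
      have hNn : N.Normal := inferInstanceAs ((pPrimeCore p (G ⧸ Z)).comap _).Normal
      set Z' := Z.subgroupOf N
      have hZ'n : Z'.Normal := hZn.subgroupOf N
      have hidx : Z'.index = Nat.card (pPrimeCore p (G ⧸ Z)) := by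
        have h1 := Z'.card_mul_index
        rw [Nat.card_congr (Subgroup.subgroupOfEquivOfLe hZN).toEquiv, show Nat.card N = Nat.card Z * Nat.card (pPrimeCore p (G ⧸ Z)) from Core.card_comap_mk' _ _] at h1
        exact Nat.eq_of_mul_eq_mul_left Nat.card_pos h1
      obtain ⟨i, hi⟩ := IsPGroup.iff_card.1 (hH.pgroup.to_le hZH)
      obtain ⟨R, hR⟩ := Subgroup.exists_right_complement'_of_coprime (N := Z') (by
        rw [hidx, Nat.card_congr (Subgroup.subgroupOfEquivOfLe hZN).toEquiv, hi]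
        exact ((Core.coprime_card_pPrimeCore p (G ⧸ Z)).symm).pow_left i)
      have hRc : (Nat.card R).Coprime p := by
        have h1 := hR.symm.index_eq_card
        rw [← h1, hidx]
        exact Core.coprime_card_pPrimeCore p _
      have hcentral : ∀ z ∈ Z', ∀ x : N, Commute z x := fun z hz x =>
        Subtype.ext ((Subgroup.mem_center_iff.1 (hZc hz) x).symm)
      have hRn : R.Normal := ⟨fun r hr x => by
        obtain ⟨⟨⟨z, hz⟩, ⟨r', hr'⟩⟩, rfl⟩ := hR.2 x
        show z * r' * r * (z * r')⁻¹ ∈ R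
        rw [mul_inv_rev, show z * r' * r * (r'⁻¹ * z⁻¹) = z * (r' * r * r'⁻¹) * z⁻¹ by group,
          (hcentral z hz _).eq, mul_inv_cancel_right]
        exact mul_mem (mul_mem hr' hr) (inv_mem hr')⟩
      have hRbot : R = ⊥ := by
        have h1 : R ≤ pPrimeCore p N := Core.le_pPrimeCore hRc
        have h2 : pPrimeCore p N = ⊥ := by
          have := Core.map_subtype_pPrimeCore_le (p := p) N
          rwa [hO, le_bot_iff, Subgroup.map_eq_bot_iff_of_injective _ N.subtype_injective] at this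
        exact le_bot_iff.1 (h2 ▸ h1)
      rw [hRbot, Subgroup.isComplement'_bot_right] at hR
      refine Subgroup.eq_bot_of_card_eq _ ?_
      rw [← hidx, hR, Subgroup.index_top]
    rw [hbot, sup_bot_eq] at hq
    refine hnn ⟨fun h hh g => ?_⟩
    have hgN : QuotientGroup.mk' Z g ∈
        Subgroup.normalizer ((H.map (QuotientGroup.mk' Z)) : Set (G ⧸ Z)) :=
      hq ▸ Subgroup.mem_top _
    obtain ⟨h', hh', he⟩ := (Subgroup.mem_normalizer_iff.1 hgN (QuotientGroup.mk' Z h)).1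
      ⟨h, hh, rfl⟩
    rw [← map_inv, ← map_mul, ← map_mul, QuotientGroup.mk'_eq_mk'] at he
    obtain ⟨z, hz, hze⟩ := he
    rw [← hze]
    exact mul_mem hh' (hZH hz)
  have hgen : Subgroup.normalClosure (H : Set G) = ⊤ := by
    by_contra hL
    set L := Subgroup.normalClosure (H : Set G) with hLdef
    have hHL : H ≤ L := Subgroup.le_normalClosure
    have hLN : L ≤ Subgroup.normalizer (H : Set G) := by
      refine (hloc L hL hHL).trans (sup_le inf_le_right ?_)
      rw [show (pPrimeCore p L).map L.subtype = ⊥ from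
        le_bot_iff.1 (hO ▸ Core.map_subtype_pPrimeCore_le L)]
      exact bot_le
    exact hnn ⟨fun h hh g => hH.mem_of_conj_normalizes hh
      (hLN (Subgroup.normalClosure_normal.conj_mem h (hHL hh) g))⟩
  have hbot : H ≠ ⊥ := fun h => hnn (h ▸ inferInstance)
  exact Minimal.elim ⟨hH, hloc, hO, hgen, hbot, hcent⟩

/-- An extremely closed abelian `p`-subgroup `H` of `G` gives `G = N_G(H) O_{p'}(G)`. -/
theorem normalizer_sup_pPrimeCore {G : Type u} [Group G] [Finite G] {H : Subgroup G}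
    (hH : Hyp p H) : Subgroup.normalizer (H : Set G) ⊔ pPrimeCore p G = ⊤ :=
  factor_aux _ G H rfl hH

end CfsgLib.LocalEvenB.ExtClosed
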