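import Cfsg.Agent.Lib.LocalEvenB.ExtremelyClosed.Split
import Cfsg.Agent.Lib.LocalEvenB.ExtremelyClosed.Factor
import Cfsg.Agent.Lib.CharDegree.Basic
import Cfsg.Agent.Lib.CharAction.PGroup

/-!
# `C(H) ∩ [O_{p'}(G), H] = 1` for an extremely closed abelian `p`-subgroup, `p` odd
-/

set_option autoImplicit false

namespace CfsgLib.LocalEvenB.ExtClosed

open Cfsg Subgroup
open scoped Classical ComplexConjugate commutatorElement

universe u

variable {p : ℕ} [Fact p.Prime]

theorem CoprimeData.sum_units {G : Type*} [Group G] [Fintype G] {μ : G →* ℂˣ} (h : μ ≠ 1) :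
    ∑ g : G, (μ g : ℂ) = 0 := by
  refine sum_hom_units_eq_zero ((Units.coeHom ℂ).comp μ) fun h1 => h ?_
  ext g
  simpa using DFunLike.congr_fun h1 g

theorem CoprimeData.conj_units {G : Type*} [Group G] [Finite G] (μ : G →* ℂˣ) (g : G) :
    conj (μ g : ℂ) = (μ⁻¹ g : ℂˣ) := by
  rw [MonoidHom.inv_apply, Units.val_inv_eq_inv_val, ← Complex.inv_eq_conj]
  refine Complex.norm_eq_one_of_pow_eq_one (n := Nat.card G) ?_ Nat.card_pos.ne'
  rw [← Units.val_pow_eq_pow_val, ← map_pow, pow_card_eq_one', map_one, Units.val_one]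

variable {G : Type*} [Group G] [Fintype G] {H R : Subgroup G}

/-- The configuration `G = R ⋊ H` has `C_R(H) = 1`. -/
theorem CoprimeData.fixR_eq_bot (hD : CoprimeData p H R) : fixR H R = ⊥ := by
  by_contra hC
  -- `H ≠ 1`
  have hH : H ≠ ⊥ := fun h => hC (by
    have := hD.comm_eq
    rw [h, Subgroup.commutator_bot_right] at this
    rw [fixR, ← this, bot_inf_eq])
  have hodd : Odd (Nat.card H) := by
    obtain ⟨n, hn⟩ := IsPGroup.iff_card.1 hD.hyp.pgroup
    rw [hn]
    exact ((Fact.out : p.Prime).odd_of_ne_two hD.odd).pow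
  -- a linear character
  obtain ⟨h₀, hh₀⟩ := Subgroup.ne_bot_iff_exists_ne_one.1 hH
  letI : CommGroup H := { (inferInstance : Group H) with
    mul_comm := fun a b => hD.hyp.comm.is_comm.comm a b }
  obtain ⟨μ, hμ₀⟩ := CommGroup.exists_apply_ne_one_of_hasEnoughRootsOfUnity H ℂ hh₀
  have hμ : μ ≠ 1 := fun h => hμ₀ (by rw [h]; rfl)
  have hsq : ∀ h : H, μ h ≠ 1 → μ (h * h) ≠ 1 := by
    intro h hh hh2
    refine hh ?_
    have h1 : μ h ^ Nat.card H = 1 := by rw [← map_pow, pow_card_eq_one', map_one]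
    obtain ⟨k, hk⟩ := hodd
    rwa [hk, pow_succ, pow_mul, sq, ← map_mul, hh2, one_pow, one_mul] at h1
  -- a nontrivial irreducible character of `C`
  obtain ⟨β, hβ⟩ : ∃ β : IrrCharacter (fixR H R), β ≠ Char.trivChar _ := by
    by_contra hno
    push Not at hno
    have : Fintype (IrrCharacter (fixR H R)) := Fintype.ofFinite _
    have h := Char.sum_sq_degree (G := fixR H R)
    rw [Finset.sum_eq_single (Char.trivChar _) (fun b _ hb => absurd (hno b) hb)
      (fun h => absurd (Finset.mem_univ _) h), Char.trivChar_apply, one_pow] at h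
    exact hC (Subgroup.card_eq_one.1 (by exact_mod_cast h.symm))
  set Ψ := hD.psi μ (β : fixR H R → ℂ) with hΨ
  set lam : G →* ℂˣ := μ.comp hD.proj with hlam
  have hgen : IsGeneralizedCharacter G Ψ := hD.psi_isGen (Char.IsIrr.isCharacter β.2)
  have hcard0 : (Nat.card H : ℂ) ≠ 0 := Nat.cast_ne_zero.2 Nat.card_pos.ne'
  have hΨ1 : Ψ 1 = 0 := hD.psi_eq_zero (one_mem R)
  have hμ2 : μ⁻¹ * μ⁻¹ ≠ 1 := fun h => hsq h₀ hμ₀ (inv_eq_one.1 (by
    rw [map_mul]
    simpa [mul_comm] using DFunLike.congr_fun h h₀))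
  have hone : ∑ _t : H, (1 : ℂ) = (Nat.card H : ℂ) := by simp [Nat.card_eq_fintype_card]
  have hn2 : classInner Ψ Ψ = 2 := by
    refine mul_left_cancel₀ hcard0 ?_
    have h := hD.classInner_psi (μ := μ) β.2 1
    simp only [MonoidHom.one_apply, Units.val_one, mul_one, map_one] at h
    rw [h]
    calc ∑ t : H, ((μ t : ℂ) - 1) * conj ((μ t : ℂ) - 1)
        = ∑ t : H, ((2 : ℂ) * 1 - (μ t : ℂ) - (μ⁻¹ t : ℂˣ)) := Finset.sum_congr rfl fun t _ => by
          rw [map_sub, map_one, CoprimeData.conj_units μ t, MonoidHom.inv_apply]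
          linear_combination (Units.mul_inv (μ t))
      _ = _ := by
          rw [Finset.sum_sub_distrib, Finset.sum_sub_distrib, ← Finset.mul_sum, hone,
            CoprimeData.sum_units hμ, CoprimeData.sum_units (inv_ne_one.2 hμ)]
          ring
  have hn1 : classInner Ψ (fun g => Ψ g * (lam g : ℂ)) = -1 := by
    refine mul_left_cancel₀ hcard0 ?_
    rw [show (fun g => Ψ g * (lam g : ℂ)) = fun g => Ψ g * (μ (hD.proj g) : ℂ) from rfl,
      hD.classInner_psi β.2 μ]
    calc ∑ t : H, ((μ t : ℂ) - 1) * conj ((μ t : ℂ) - 1) * conj (μ t : ℂ)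
        = ∑ t : H, ((2 : ℂ) * (μ⁻¹ t : ℂˣ) - 1 - ((μ⁻¹ * μ⁻¹) t : ℂˣ)) :=
          Finset.sum_congr rfl fun t _ => by
          rw [map_sub, map_one, CoprimeData.conj_units μ t, MonoidHom.mul_apply,
            MonoidHom.inv_apply, Units.val_mul]
          linear_combination ((((μ t)⁻¹ : ℂˣ) : ℂ) - 1) * (Units.mul_inv (μ t))
      _ = _ := by
          rw [Finset.sum_sub_distrib, Finset.sum_sub_distrib, ← Finset.mul_sum, hone,
            CoprimeData.sum_units hμ2, CoprimeData.sum_units (inv_ne_one.2 hμ)]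
          ring
  obtain ⟨χ, χ', hχ, hχ', hne, hdiff⟩ := Char.Exceptional.IsGen.norm_two hgen hn2 hΨ1
  set a : G → ℂ := fun g => χ g * (lam g : ℂ) with ha
  set b : G → ℂ := fun g => χ' g * (lam g : ℂ) with hb
  have hair : IsIrrCharacter G a := CharDegree.isIrr_mul_linear ⟨χ, hχ⟩ lam
  have hbir : IsIrrCharacter G b := CharDegree.isIrr_mul_linear ⟨χ', hχ'⟩ lam
  have hcase : χ = b ∨ χ' = a := by
    by_contra hno
    push Not at hno
    have hab : (fun g => Ψ g * (lam g : ℂ)) = a - b := by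
      funext g
      simp only [ha, hb, hdiff, Pi.sub_apply]
      ring
    rw [hab, hdiff, Char.classInner_sub_left, Char.classInner_sub_right, Char.classInner_sub_right,
      Char.Exceptional.classInner_eq_zero_of_irr hχ hbir hno.1,
      Char.Exceptional.classInner_eq_zero_of_irr hχ' hair hno.2,
      Char.Exceptional.classInner_of_irr hχ hair, Char.Exceptional.classInner_of_irr hχ' hbir] at hn1
    split_ifs at hn1 <;> norm_num at hn1
  -- one irreducible character carrying `β`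
  obtain ⟨ξ, ε, hε, hξ⟩ : ∃ (ξ : IrrCharacter G) (ε : ℂ), (ε = 1 ∨ ε = -1) ∧
      ∀ g : G, μ (hD.proj g) ≠ 1 → ((μ (hD.proj g) : ℂ) - 1) * (ξ : G → ℂ) g = ε * Ψ g := by
    rcases hcase with h | h
    · refine ⟨⟨χ', hχ'⟩, 1, Or.inl rfl, fun g _ => ?_⟩
      rw [one_mul, hdiff, Pi.sub_apply, congrFun h g, hb]
      simp only [hlam, MonoidHom.comp_apply]
      ring
    · refine ⟨⟨χ, hχ⟩, -1, Or.inr rfl, fun g _ => ?_⟩
      rw [hdiff, Pi.sub_apply, congrFun h g, ha]
      simp only [hlam, MonoidHom.comp_apply]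
      ring
  have hcl := Char.IsIrr.isClassFunction β.2
  have hval : ∀ (k : G) (t : H) (y c : G) (hc : c ∈ fixR H R), μ t ≠ 1 →
      SplitRel H R (t : G) y c →
      (ξ : G → ℂ) (k * ((t : G) * y) * k⁻¹) = ε * (β : fixR H R → ℂ) ⟨c, hc⟩ := by
    intro k t y c hc ht hr
    have hproj := hD.proj_form k t (Subgroup.mem_inf.1 hr.1).1
    have h := hξ (k * ((t : G) * y) * k⁻¹) (by rwa [hproj])
    rw [hΨ, hproj, hD.psi_eq hcl k t hc hr] at h
    have hne : ((μ t : ℂ) - 1) ≠ 0 :=
      sub_ne_zero.2 fun h1 => ht (Units.ext (h1.trans Units.val_one.symm))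
    refine mul_left_cancel₀ hne (h.trans ?_)
    ring
  have hone_mem : (1 : G) ∈ fixR H R := one_mem _
  obtain ⟨D, hD0, hD1⟩ := Char.IsIrr.exists_degree β.2
  have hβ1 : (β : fixR H R → ℂ) ⟨1, hone_mem⟩ = D := hD1
  have hε0 : ε ≠ 0 := by rcases hε with rfl | rfl <;> norm_num
  have hHval : ∀ h : H, μ h ≠ 1 → (ξ : G → ℂ) (h : G) = ε * (D : ℂ) := by
    intro h hh
    have h1 := hval 1 h 1 1 hone_mem hh (hD.rel_of_fixR h.2 hone_mem)
    rw [one_mul, mul_one, inv_one, mul_one, hβ1] at h1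
    exact h1
  have hker : ∀ h : H, μ h ≠ 1 → (h : G) ∈ CharDegree.kerSubgroup ξ := by
    intro h hh
    rw [CharDegree.mem_kerSubgroup]
    have hterm : ∀ g : G, (ξ : G → ℂ) ((h : G) * (g * (h : G) * g⁻¹)) = ε * (D : ℂ) := by
      intro g
      set o := (h : G)⁻¹ * (g * (h : G) * g⁻¹) with ho
      have hoR : o ∈ R := by
        refine hD.proj_eq_one_iff.1 ?_
        rw [ho, map_mul, hD.proj_conj, map_inv, hD.proj_of_mem, inv_mul_cancel]
      have hoK : o ∈ pairKer p H g := hD.hyp.mem_pairKer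
        (mul_mem (inv_mem (mem_sup_left h.2)) (conj_mem_pairGrp h.2 g))
        (hD.cop.coprime_dvd_left (Subgroup.orderOf_dvd_natCard R hoR))
      have ht2 : μ (h * h) ≠ 1 := hsq h hh
      obtain ⟨c, -, w, hwK, hwt, he⟩ := hD.hyp.section_form (h * h).2 hoK
      have hwR : w ∈ R := by
        refine hD.proj_eq_one_iff.1 (Subtype.ext (hD.hyp.eq_one_of_coprime (hD.proj w).2 ?_))
        rw [Subgroup.orderOf_coe]
        exact (coprime_orderOf_of_mem_pairKer hwK).coprime_dvd_left (orderOf_map_dvd hD.proj w)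
      set t : G := ((h * h : H) : G) with ht
      have hwS : w ∈ centR R t :=
        Subgroup.mem_inf.2 ⟨hwR, Subgroup.mem_centralizer_singleton_iff.2 hwt.eq.symm⟩
      -- `C_O(t)` lies in `W_t`
      set U := pairKer p H g ⊓ centR R t with hU
      have hHU : H ≤ Subgroup.normalizer (U : Set G) := fun x hx => by
        have hx1 := pairGrp_le_normalizer (p := p) H g (mem_sup_left hx)
        have hx2 := hD.le_normalizer_centR (h * h).2 hx
        exact Subgroup.mem_normalizer_iff.2 fun y =>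
          ⟨fun hy => ⟨(Subgroup.mem_normalizer_iff.1 hx1 y).1 hy.1,
            (Subgroup.mem_normalizer_iff.1 hx2 y).1 hy.2⟩,
          fun hy => ⟨(Subgroup.mem_normalizer_iff.1 hx1 y).2 hy.1,
            (Subgroup.mem_normalizer_iff.1 hx2 y).2 hy.2⟩⟩
      have hwW : w ∈ ⁅centR R t, H⁆ := by
        obtain ⟨u, hu, d, hd, hwe⟩ := Core.exists_mul_centralizing hHU
          (hD.coprime_le (inf_le_right.trans inf_le_left))
          (Or.inl (Group.isSolvable_of_comm fun a b => hD.hyp.comm.is_comm.comm a b))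
          (Subgroup.mem_inf.2 ⟨hwK, hwS⟩ : w ∈ U)
        have hd1 : d = 1 := hD.hyp.eq_one_of_commute (Subgroup.mem_inf.1 (Subgroup.mem_inf.1 hd).1).1
          fun x hx => Subgroup.mem_centralizer_iff.1 (Subgroup.mem_inf.1 hd).2 x hx
        rw [hwe, hd1, mul_one]
        exact Subgroup.commutator_mono inf_le_right le_rfl hu
      rw [show (h : G) * (g * (h : G) * g⁻¹) = t * o by rw [ho, ht, Subgroup.coe_mul]; group, he,
        hval c (h * h) w 1 hone_mem ht2 ⟨hwS, hone_mem, by rwa [inv_one, mul_one]⟩, hβ1]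
    have h1 := CharAction.apply_mul_apply ξ.2 (h : G) (h : G)
    simp only [hterm, Finset.sum_const, Finset.card_univ, nsmul_eq_mul] at h1
    rw [hHval h hh, ← Nat.card_eq_fintype_card] at h1
    rw [hHval h hh]
    have hne0 : (Nat.card G : ℂ) * (ε * (D : ℂ)) ≠ 0 := mul_ne_zero
      (Nat.cast_ne_zero.2 Nat.card_pos.ne') (mul_ne_zero hε0 (Nat.cast_ne_zero.2 hD0.ne'))
    refine mul_left_cancel₀ hne0 ?_
    linear_combination h1
  set K := CharDegree.kerSubgroup ξ with hK
  have hKn : K.Normal := CharDegree.kerSubgroup_normal ξ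
  have hHK : ∀ h : H, (h : G) ∈ K := by
    intro h
    by_cases hh : μ h = 1
    · have h2 : μ (h * h₀) ≠ 1 := by rwa [map_mul, hh, one_mul]
      have := mul_mem (hker _ h2) (inv_mem (hker _ hμ₀))
      simpa using this
    · exact hker h hh
  have hRK : R ≤ K := by
    rw [← hD.comm_eq, Subgroup.commutator_le]
    intro r _ h hh
    exact mul_mem (hKn.conj_mem h (hHK ⟨h, hh⟩) r) (inv_mem (hHK ⟨h, hh⟩))
  have hconst : ∀ g : G, (ξ : G → ℂ) g = (ξ : G → ℂ) 1 := fun g => by
    obtain ⟨h, hh, r, hr, rfl⟩ := hD.exists_mul g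
    exact CharDegree.mem_kerSubgroup.1 (mul_mem (hHK ⟨h, hh⟩) (hRK hr))
  -- `β` is constant, hence trivial
  have hβc : ∀ c : fixR H R, (β : fixR H R → ℂ) c = (D : ℂ) := fun c => by
    have h1 := hval 1 h₀ c c c.2 hμ₀ (hD.rel_of_fixR h₀.2 c.2)
    rw [hconst, ← hconst (h₀ : G), hHval h₀ hμ₀] at h1
    exact (mul_left_cancel₀ hε0 h1).symm
  have hnorm := (Char.isIrr_iff_classInner_eq_one.1 β.2).2
  simp only [classInner, hβc, Complex.conj_natCast, Finset.sum_const, Finset.card_univ,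
    nsmul_eq_mul, ← Nat.card_eq_fintype_card] at hnorm
  rw [← mul_assoc, inv_mul_cancel₀ (Nat.cast_ne_zero.2 Nat.card_pos.ne'), one_mul] at hnorm
  have hD' : D = 1 := by
    have : D * D = 1 := by exact_mod_cast hnorm
    exact Nat.eq_one_of_mul_eq_one_right this
  exact hβ (Char.irr_ext fun c => by rw [hβc, Char.trivChar_apply, hD', Nat.cast_one])

theorem coprime_aux (hp : p ≠ 2) : ∀ (m : ℕ) (G : Type u) [Group G] [Finite G] (H : Subgroup G),
    Nat.card G = m → Hyp p H →
      ∀ x ∈ ⁅pPrimeCore p G, H⁆, x ∈ Subgroup.centralizer (H : Set G) → x = 1 := by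
  intro m
  induction m using Nat.strong_induction_on with
  | _ m ih =>
  intro G _ _ H hcard hH x hx hxC
  set O := pPrimeCore p G
  set R := ⁅O, H⁆ with hR
  have hHO : H ≤ Subgroup.normalizer (O : Set G) := by
    rw [Subgroup.normalizer_eq_top]; exact le_top
  have hRO : R ≤ O := Core.commutator_le_of_normalizes hHO
  have hHR : H ≤ Subgroup.normalizer (R : Set G) := normalizer_commutator_ge_right O H
  have hcop : ∀ {Z : Subgroup G}, Z ≤ O → (Nat.card H).Coprime (Nat.card Z) := fun {Z} hZ => by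
    obtain ⟨n, hn⟩ := IsPGroup.iff_card.1 hH.pgroup
    rw [hn]
    exact ((Core.coprime_card_pPrimeCore p G).coprime_dvd_left
      (Subgroup.card_dvd_of_le hZ)).symm.pow_left n
  have hsolv : Group.IsSolvable H := Group.isSolvable_of_comm fun a b => hH.comm.is_comm.comm a b
  have hRR : ⁅R, H⁆ = R := Core.commutator_commutator_eq hHO (hcop le_rfl) (Or.inl hsolv)
  have hRcop : (Nat.card R).Coprime p :=
    (Core.coprime_card_pPrimeCore p G).coprime_dvd_left (Subgroup.card_dvd_of_le hRO)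
  -- the conclusion in proper subgroups
  have hsub : ∀ L : Subgroup G, L ≠ ⊤ → H ≤ L → ∀ Z : Subgroup G, Z ≤ L → Z ≤ O →
      L ≤ Subgroup.normalizer (Z : Set G) → ∀ y ∈ ⁅Z, H⁆,
        y ∈ Subgroup.centralizer (H : Set G) → y = 1 := by
    intro L hL hHL Z hZL hZO hLZ y hy hyC
    have hlt : Nat.card L < m := hcard ▸ lt_of_le_of_ne (Subgroup.card_le_card_group L)
      fun h => hL (Subgroup.eq_top_of_card_eq L h)
    have hZn : (Z.subgroupOf L).Normal := Subgroup.normal_subgroupOf_of_le_normalizer hLZ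
    have hZ' : Z.subgroupOf L ≤ pPrimeCore p L := Core.le_pPrimeCore (by
      rw [Nat.card_congr (Subgroup.subgroupOfEquivOfLe hZL).toEquiv]
      exact (Core.coprime_card_pPrimeCore p G).coprime_dvd_left (Subgroup.card_dvd_of_le hZO))
    have hmap : ⁅Z, H⁆ = (⁅Z.subgroupOf L, H.subgroupOf L⁆).map L.subtype := by
      rw [Subgroup.map_commutator, Subgroup.map_subgroupOf_eq_of_le hZL,
        Subgroup.map_subgroupOf_eq_of_le hHL]
    rw [hmap] at hy
    obtain ⟨z, hz, rfl⟩ := hy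
    have := ih _ hlt L (H.subgroupOf L) rfl (hH.subgroupOf hHL) z
      (Subgroup.commutator_mono hZ' le_rfl hz) (Subgroup.mem_centralizer_iff.2 fun a ha =>
        Subtype.ext (Subgroup.mem_centralizer_iff.1 hyC a ha))
    rw [this, map_one]
  by_cases htop : H ⊔ R = ⊤
  swap
  · exact hsub (H ⊔ R) htop le_sup_left R le_sup_right hRO (sup_le hHR Subgroup.le_normalizer)
      x (hRR.symm ▸ hx) hxC
  have hRn : R.Normal := Subgroup.normalizer_eq_top_iff.1
    (top_le_iff.1 (htop ▸ sup_le hHR Subgroup.le_normalizer))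
  by_cases hcent : ∃ t ∈ H, t ≠ 1 ∧ ∀ r ∈ R, Commute t r
  · obtain ⟨t, ht, ht1, htR⟩ := hcent
    have htc : t ∈ Subgroup.center G := by
      rw [Subgroup.mem_center_iff]
      intro g
      obtain ⟨h, hh, r, hr, rfl⟩ := Subgroup.mem_sup_of_normal_right.1
        (htop ▸ Subgroup.mem_top g : g ∈ H ⊔ R)
      exact ((hH.commute ht hh).mul_right (htR r hr)).eq.symm
    have hZle : Subgroup.zpowers t ≤ H := Subgroup.zpowers_le.2 ht
    have hZc : Subgroup.zpowers t ≤ Subgroup.center G := Subgroup.zpowers_le.2 htc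
    have hZn : (Subgroup.zpowers t).Normal := ⟨fun z hz g => by
      rwa [Subgroup.mem_center_iff.1 (hZc hz) g, mul_inv_cancel_right]⟩
    set Z := Subgroup.zpowers t
    have hlt : Nat.card (G ⧸ Z) < m := by
      rw [← hcard, Subgroup.card_eq_card_quotient_mul_card_subgroup Z]
      refine lt_mul_of_one_lt_right Nat.card_pos (Z.one_lt_card_iff_ne_bot.2 fun h => ht1 ?_)
      exact (Subgroup.mem_bot).1 (h ▸ Subgroup.mem_zpowers t)
    have hq : Hyp p (H.map (QuotientGroup.mk' Z)) := hH.map_mk Z fun g k hk hn => by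
      refine mem_sup_left (hH.mem_of_normalizes hk (Subgroup.mem_normalizer_iff_map_conj_eq.2
        (Subgroup.eq_of_le_of_card_ge ?_
          (le_of_eq (Subgroup.card_map_of_injective (MulEquiv.injective _)).symm))))
      rintro _ ⟨h, hh, rfl⟩
      exact sup_le le_rfl hZle (hn h hh)
    have hO' : O.map (QuotientGroup.mk' Z) ≤ pPrimeCore p (G ⧸ Z) := by
      have := Subgroup.Normal.map (H := O) inferInstance (QuotientGroup.mk' Z)
        (QuotientGroup.mk'_surjective Z)
      exact Core.le_pPrimeCore ((Core.coprime_card_pPrimeCore p G).coprime_dvd_left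
        (Subgroup.card_map_dvd _ _))
    have hx' : QuotientGroup.mk' Z x ∈
        ⁅pPrimeCore p (G ⧸ Z), H.map (QuotientGroup.mk' Z)⁆ := by
      refine Subgroup.commutator_mono hO' le_rfl ?_
      rw [← Subgroup.map_commutator]
      exact ⟨x, hx, rfl⟩
    have hxC' : QuotientGroup.mk' Z x ∈
        Subgroup.centralizer ((H.map (QuotientGroup.mk' Z) : Subgroup (G ⧸ Z)) : Set (G ⧸ Z)) := by
      refine Subgroup.mem_centralizer_iff.2 ?_
      rintro _ ⟨a, ha, rfl⟩
      rw [← map_mul, ← map_mul, Subgroup.mem_centralizer_iff.1 hxC a ha]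
    have hxZ := (QuotientGroup.eq_one_iff x).1 (ih _ hlt _ _ rfl hq _ hx' hxC')
    exact (Subgroup.mem_bot).1 ((Subgroup.inf_eq_bot_of_coprime (hcop hRO)) ▸
      (Subgroup.mem_inf.2 ⟨hZle hxZ, hx⟩ : x ∈ H ⊓ R))
  push Not at hcent
  have hloc : ∀ t ∈ H, t ≠ 1 → ∀ w ∈ ⁅centR R t, H⁆,
      w ∈ Subgroup.centralizer (H : Set G) → w = 1 := by
    intro t ht ht1
    set L := Subgroup.centralizer ({t} : Set G)
    have hLtop : L ≠ ⊤ := by
      obtain ⟨r, hr, hne⟩ := hcent t ht ht1
      intro h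
      exact hne (Subgroup.mem_centralizer_singleton_iff.1 (h ▸ Subgroup.mem_top r : r ∈ L)).symm
    refine hsub L hLtop (fun h hh => Subgroup.mem_centralizer_singleton_iff.2 (hH.commute hh ht).eq)
      (centR R t) inf_le_right (inf_le_left.trans hRO) ?_
    intro l hl
    refine Subgroup.mem_normalizer_iff.2 fun y => ⟨fun hy => ?_, fun hy => ?_⟩
    · exact ⟨hRn.conj_mem y hy.1 l, L.mul_mem (L.mul_mem hl hy.2) (L.inv_mem hl)⟩
    · refine ⟨?_, ?_⟩
      · have := hRn.conj_mem _ hy.1 l⁻¹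
        simpa [mul_assoc] using this
      · have := L.mul_mem (L.mul_mem (L.inv_mem hl) hy.2) hl
        simpa [mul_assoc] using this
  have : Fintype G := Fintype.ofFinite G
  have hD : CoprimeData p H R := ⟨hH, hp, hRn, hRcop, htop, hRR, hloc⟩
  exact (Subgroup.mem_bot).1 (hD.fixR_eq_bot ▸ Subgroup.mem_inf.2 ⟨hx, hxC⟩)

/-- `C(H) ∩ [O_{p'}(G), H] = 1`. -/
theorem eq_one_of_mem_commutator {G : Type u} [Group G] [Finite G] {H : Subgroup G} (hp : p ≠ 2)
    (hH : Hyp p H) {x : G} (hx : x ∈ ⁅pPrimeCore p G, H⁆)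
    (hxC : x ∈ Subgroup.centralizer (H : Set G)) : x = 1 :=
  coprime_aux hp _ G H rfl hH x hx hxC

/-- The normal closure meets the normalizer in `H`. -/
theorem normalClosure_inf_normalizer {G : Type u} [Group G] [Finite G] {H : Subgroup G}
    (hp : p ≠ 2) (hH : Hyp p H) :
    Subgroup.normalClosure (H : Set G) ⊓ Subgroup.normalizer (H : Set G) = H := by
  set O := pPrimeCore p G
  set R := ⁅O, H⁆ with hR
  have hHO : H ≤ Subgroup.normalizer (O : Set G) := by
    rw [Subgroup.normalizer_eq_top]; exact le_top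
  have hRO : R ≤ O := Core.commutator_le_of_normalizes hHO
  have hHR : H ≤ Subgroup.normalizer (R : Set G) := normalizer_commutator_ge_right O H
  have hOR : O ≤ Subgroup.normalizer (R : Set G) := normalizer_commutator_ge_left O H
  have hclo : Subgroup.normalClosure (H : Set G) ≤ H ⊔ R := by
    rw [Subgroup.normalClosure, Subgroup.closure_le]
    intro y hy
    obtain ⟨h, hh, hc⟩ := Group.mem_conjugatesOfSet_iff.1 hy
    obtain ⟨g, rfl⟩ := isConj_iff.1 hc
    obtain ⟨n, hn, o, ho, rfl⟩ := Subgroup.mem_sup_of_normal_right.1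
      (normalizer_sup_pPrimeCore hH ▸ Subgroup.mem_top g :
        g ∈ Subgroup.normalizer (H : Set G) ⊔ O)
    -- `n o h (n o)⁻¹ = (n o n⁻¹) (n h n⁻¹) (n o n⁻¹)⁻¹`
    have hh' := (Subgroup.mem_normalizer_iff.1 hn h).1 hh
    have ho' : n * o * n⁻¹ ∈ O := (inferInstance : O.Normal).conj_mem o ho n
    rw [show n * o * h * (n * o)⁻¹ = ⁅n * o * n⁻¹, n * h * n⁻¹⁆ * (n * h * n⁻¹) by
      rw [commutatorElement_def]; group]
    exact mul_mem (mem_sup_right (Subgroup.commutator_mem_commutator ho' hh')) (mem_sup_left hh')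
  refine le_antisymm ?_ (le_inf Subgroup.subset_normalClosure Subgroup.le_normalizer)
  intro y hy
  obtain ⟨h, hh, r, hr, rfl⟩ := (Core.mem_sup_iff_mul hHR).1 (hclo (Subgroup.mem_inf.1 hy).1)
  have hrN : r ∈ Subgroup.normalizer (H : Set G) := by
    have := mul_mem (inv_mem (Subgroup.le_normalizer hh : h ∈ Subgroup.normalizer (H : Set G)))
      (Subgroup.mem_inf.1 hy).2
    rwa [inv_mul_cancel_left] at this
  have hrC : r ∈ Subgroup.centralizer (H : Set G) := Subgroup.mem_centralizer_iff.2 fun a ha => by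
    have h1 : r * a * r⁻¹ * a⁻¹ ∈ H :=
      mul_mem ((Subgroup.mem_normalizer_iff.1 hrN a).1 ha) (inv_mem ha)
    have h2 : r * a * r⁻¹ * a⁻¹ ∈ R := by
      have := (Subgroup.mem_normalizer_iff.1 (hHR ha) r⁻¹).1 (inv_mem hr)
      rw [show r * a * r⁻¹ * a⁻¹ = r * (a * r⁻¹ * a⁻¹) by group]
      exact mul_mem hr this
    have h3 := hH.eq_one_of_coprime h1 ((Core.coprime_card_pPrimeCore p G).coprime_dvd_left
      (Subgroup.orderOf_dvd_natCard O (hRO h2)))
    rw [mul_inv_eq_one, mul_inv_eq_iff_eq_mul] at h3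
    exact h3.symm
  rw [eq_one_of_mem_commutator hp hH hr hrC, mul_one]
  exact hh

end CfsgLib.LocalEvenB.ExtClosed
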