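import Cfsg.Agent.Lib.LocalEvenB.ExtremelyClosed.Pairs
import Cfsg.Agent.Lib.ZStar.Main
import Cfsg.Agent.Lib.Blocks.SubsectionNorms
import Cfsg.Agent.Lib.CharDegree.Basic
import Cfsg.Agent.Lib.CharAction.PGroup

/-!
# Extremely closed abelian `p`-subgroups: the minimal configuration is impossible

In a group `G` with `O_{p'}(G) = 1` generated by the conjugates of an extremely closed abelian
`p`-subgroup `H`, all of whose proper subgroups over `H` factorise, every principal block character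
takes the value `χ (k e)` on all `k y` with `y` conjugate to `l` with image `e ∈ H`.  Block
orthogonality then yields a nontrivial character in which two pair groups fix a common vector,
while three suitable conjugates of `H` generate `G`.
-/

set_option autoImplicit false

namespace CfsgLib.LocalEvenB.ExtClosed

open Cfsg Subgroup
open scoped ComplexConjugate Classical

variable {G : Type*} [Group G] [Fintype G] {p : ℕ} [Fact p.Prime] {H : Subgroup G}

/-- The minimal configuration. -/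
structure Minimal (p : ℕ) (H : Subgroup G) : Prop where
  hyp : Hyp p H
  loc : LocalFactor p H
  core : pPrimeCore p G = ⊥
  gen : Subgroup.normalClosure (H : Set G) = ⊤
  ne_bot : H ≠ ⊥
  cent : ∀ t ∈ H, t ≠ 1 → Subgroup.centralizer ({t} : Set G) ≠ ⊤

omit [Fintype G] in
theorem isPPart_self {x : G} (h : ∃ k : ℕ, orderOf x = p ^ k) : IsPPart p x x :=
  ⟨1, mul_one x, Commute.one_right x, h, by
    rw [orderOf_one]; exact (Fact.out : p.Prime).not_dvd_one⟩

omit [Fintype G] [Fact p.Prime] in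
theorem Hyp.exists_orderOf (hH : Hyp p H) [Fact p.Prime] {h : G} (hh : h ∈ H) :
    ∃ k : ℕ, orderOf h = p ^ k := by
  obtain ⟨i, hi⟩ := IsPGroup.iff_orderOf.1 hH.pgroup ⟨h, hh⟩
  exact ⟨i, by rw [← hi, Subgroup.orderOf_mk]⟩

omit [Fintype G] in
theorem Hyp.dvd_orderOf (hH : Hyp p H) {h : G} (hh : h ∈ H) (h1 : h ≠ 1) : p ∣ orderOf h := by
  obtain ⟨i, hi⟩ := hH.exists_orderOf hh
  rcases Nat.eq_zero_or_pos i with rfl | hpos
  · exact absurd (orderOf_eq_one_iff.1 (by rw [hi, pow_zero])) h1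
  · exact hi ▸ dvd_pow_self p hpos.ne'

omit [Fintype G] in
theorem not_dvd_of_coprime {n : ℕ} (h : n.Coprime p) : ¬ p ∣ n :=
  (Fact.out : p.Prime).coprime_iff_not_dvd.1 h.symm

variable {M : Ideal AlgInt} [M.IsPrime]

/-- The non-identity elements of `H`. -/
noncomputable abbrev hsharp (H : Subgroup G) : Finset G :=
  Finset.univ.filter fun h => h ∈ H ∧ h ≠ 1

theorem mem_hsharp {h : G} : h ∈ hsharp H ↔ h ∈ H ∧ h ≠ 1 := by simp

theorem card_hsharp_add_one : (hsharp H).card + 1 = Nat.card H := by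
  have hins : insert (1 : G) (hsharp H) = Finset.univ.filter fun h => h ∈ H := by
    ext h
    by_cases h1 : h = 1 <;> simp [h1, H.one_mem]
  rw [Nat.card_eq_fintype_card, Fintype.card_subtype, ← hins,
    Finset.card_insert_of_notMem (by simp)]

/-- The sum of the values of `χ` on the non-identity elements of `H`. -/
noncomputable abbrev wsum (H : Subgroup G) (χ : G → ℂ) : ℂ := ∑ h ∈ hsharp H, χ h

/-- Key value lemma on a pair group. -/
theorem Minimal.apply_mul (hm : Minimal p H) (hM : IsPModular p M) {χ : IrrCharacter G}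
    (hχ : χ ∈ principalBlock M G) {t o g : G} (ht : t ∈ H) (ht1 : t ≠ 1)
    (ho : o ∈ pairKer p H g) : (χ : G → ℂ) (t * o) = (χ : G → ℂ) t := by
  obtain ⟨c, -, w, hw, hc, he⟩ := hm.hyp.section_form ht ho
  rw [he, Char.IsIrr.isClassFunction χ.2 (t * w) c]
  obtain ⟨z, hz, rfl⟩ := hm.hyp.mem_core_centralizer hm.loc ht (hm.cent t ht ht1) hw hc
  exact ZStar.apply_mul_eq_of_mem hM (hm.hyp.exists_orderOf ht) inferInstance
    (not_dvd_of_coprime (Core.coprime_card_pPrimeCore p _)) hχ hz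

/-- `χ (k · g l g⁻¹) = χ (k e)`. -/
theorem Minimal.apply_mul_conj (hm : Minimal p H) (hM : IsPModular p M) {χ : IrrCharacter G}
    (hχ : χ ∈ principalBlock M G) {k l e g : G} (hk : k ∈ H) (hl : l ∈ H)
    (he : IsImg p H g l e) (hne : k * e ≠ 1) :
    (χ : G → ℂ) (k * (g * l * g⁻¹)) = (χ : G → ℂ) (k * e) := by
  have hrw : k * (g * l * g⁻¹) = (k * e) * (e⁻¹ * (g * l * g⁻¹)) := by group
  rw [hrw]
  exact hm.apply_mul hM hχ (mul_mem hk he.1) hne (hm.hyp.mem_pairKer
    (mul_mem (inv_mem (mem_sup_left he.1)) (conj_mem_pairGrp hl g)) he.2)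

/-- The chosen translation with `gHg⁻¹ = oHo⁻¹`, as an element of the normaliser. -/
noncomputable def trans (hH : Hyp p H) (g : G) : G := (hH.exists_translate g).choose⁻¹ * g

theorem trans_mem (hH : Hyp p H) (g : G) : trans hH g ∈ Subgroup.normalizer (H : Set G) :=
  (hH.exists_translate g).choose_spec.2

theorem isImg_trans (hH : Hyp p H) (g : G) {l : G} (hl : l ∈ H) :
    IsImg p H g l (trans hH g * l * (trans hH g)⁻¹) := by
  set o := (hH.exists_translate g).choose
  have ho : o ∈ pairKer p H g := (hH.exists_translate g).choose_spec.1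
  refine ⟨(Subgroup.mem_normalizer_iff.1 (trans_mem hH g) l).1 hl, ?_⟩
  set e := (o⁻¹ * g) * l * (o⁻¹ * g)⁻¹ with he
  show (orderOf (e⁻¹ * (g * l * g⁻¹))).Coprime p
  have heH : e ∈ H := (Subgroup.mem_normalizer_iff.1 (trans_mem hH g) l).1 hl
  refine coprime_orderOf_of_mem_pairKer (H := H) (g := g) ?_
  have h1 : e⁻¹ * (g * l * g⁻¹) = (e⁻¹ * o * e) * o⁻¹ := by rw [he]; group
  rw [h1]
  refine mul_mem ?_ (inv_mem ho)
  have := (Subgroup.mem_normalizer_iff.1 (pairGrp_le_normalizer (p := p) H g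
    (mem_sup_left (inv_mem heH))) o).1 ho
  rwa [inv_inv] at this

/-- The element of order prime to `p` attached to `k` and `g`. -/
noncomputable def regElt (hH : Hyp p H) (k g : G) : G :=
  k * (g * ((trans hH g)⁻¹ * k⁻¹ * trans hH g) * g⁻¹)

theorem not_dvd_regElt (hH : Hyp p H) {k : G} (hk : k ∈ H) (g : G) :
    ¬ p ∣ orderOf (regElt hH k g) := by
  set n := trans hH g with hn
  have hl : n⁻¹ * k⁻¹ * n ∈ H := by
    have := (Subgroup.mem_normalizer_iff.1 (inv_mem (trans_mem hH g)) k⁻¹).1 (inv_mem hk)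
    rwa [inv_inv] at this
  have h := isImg_trans hH g hl
  rw [← hn, show n * (n⁻¹ * k⁻¹ * n) * n⁻¹ = k⁻¹ by group] at h
  have h2 := h.2
  rw [inv_inv] at h2
  exact not_dvd_of_coprime h2

/-- For fixed `k` and `g` the sum over `l ∈ H#`. -/
theorem Minimal.sum_apply_mul_conj (hm : Minimal p H) (hM : IsPModular p M) {χ : IrrCharacter G}
    (hχ : χ ∈ principalBlock M G) {k : G} (hk : k ∈ hsharp H) (g : G) :
    ∑ l ∈ hsharp H, (χ : G → ℂ) (k * (g * l * g⁻¹)) =
      (wsum H (χ : G → ℂ) - (χ : G → ℂ) k) + (χ : G → ℂ) (regElt hm.hyp k g) := by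
  rw [mem_hsharp] at hk
  set n := trans hm.hyp g with hn
  have hnN := trans_mem hm.hyp g
  have hmem : ∀ x : G, n * x * n⁻¹ ∈ H ↔ x ∈ H := fun x =>
    ((Subgroup.mem_normalizer_iff.1 hnN x)).symm
  have hne : ∀ x : G, n * x * n⁻¹ = 1 ↔ x = 1 := fun x => by
    rw [mul_inv_eq_one, mul_eq_left]
  set l₀ := n⁻¹ * k⁻¹ * n with hl₀
  have hl₀m : l₀ ∈ hsharp H := by
    rw [mem_hsharp, ← hmem, Ne, ← hne, show n * l₀ * n⁻¹ = k⁻¹ by rw [hl₀]; group]
    exact ⟨inv_mem hk.1, inv_ne_one.2 hk.2⟩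
  rw [← Finset.sum_erase_add _ _ hl₀m]
  congr 1
  rw [wsum, ← Finset.sum_erase_eq_sub (mem_hsharp.2 hk)]
  refine Finset.sum_nbij' (fun l => k * (n * l * n⁻¹)) (fun e => n⁻¹ * (k⁻¹ * e) * n) ?_ ?_ ?_ ?_ ?_
  · intro l hl
    rw [Finset.mem_erase, mem_hsharp] at hl
    rw [Finset.mem_erase, mem_hsharp]
    refine ⟨fun h => hl.2.2 ((hne l).1 (mul_eq_left.1 h)), mul_mem hk.1 ((hmem l).2 hl.2.1),
      fun h => hl.1 ?_⟩
    rw [hl₀, ← eq_inv_of_mul_eq_one_right h]
    group
  · intro e he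
    rw [Finset.mem_erase, mem_hsharp] at he
    rw [Finset.mem_erase, mem_hsharp, ← hmem, Ne, Ne, ← hne (n⁻¹ * _ * n),
      show n * (n⁻¹ * (k⁻¹ * e) * n) * n⁻¹ = k⁻¹ * e by group]
    refine ⟨fun h => he.2.2 ?_, mul_mem (inv_mem hk.1) he.2.1, fun h => he.1 (inv_mul_eq_one.1 h).symm⟩
    rw [hl₀, mul_left_inj, mul_right_inj, mul_eq_left] at h
    exact h
  · intro l _; group
  · intro e _; group
  · intro l hl
    rw [Finset.mem_erase, mem_hsharp] at hl
    refine hm.apply_mul_conj hM hχ hk.1 hl.2.1 (isImg_trans hm.hyp g hl.2.1) fun h => hl.1 ?_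
    rw [hl₀, ← eq_inv_of_mul_eq_one_right h]
    group

/-- The basic identity. -/
theorem Minimal.sq_wsum (hm : Minimal p H) (hM : IsPModular p M) {χ : IrrCharacter G}
    (hχ : χ ∈ principalBlock M G) :
    (Nat.card G : ℂ) * (wsum H (χ : G → ℂ) * wsum H (χ : G → ℂ) / (χ : G → ℂ) 1 -
        (((hsharp H).card : ℂ) - 1) * wsum H (χ : G → ℂ)) =
      ∑ k ∈ hsharp H, ∑ g : G, (χ : G → ℂ) (regElt hm.hyp k g) := by
  have h1 : (χ : G → ℂ) 1 ≠ 0 := Char.IsIrr.apply_one_ne_zero χ.2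
  have h2 : (Nat.card G : ℂ) * (wsum H (χ : G → ℂ) * wsum H (χ : G → ℂ)) =
      (χ : G → ℂ) 1 * ∑ k ∈ hsharp H, ∑ g : G, ∑ l ∈ hsharp H,
        (χ : G → ℂ) (k * (g * l * g⁻¹)) := by
    rw [wsum, Finset.sum_mul_sum]
    simp only [Finset.mul_sum]
    refine Finset.sum_congr rfl fun k _ => ?_
    rw [Finset.sum_comm]
    refine Finset.sum_congr rfl fun l _ => ?_
    rw [CharAction.apply_mul_apply χ.2 k l, Finset.mul_sum]
  rw [mul_sub, mul_div, h2, mul_div_cancel_left₀ _ h1,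
    Finset.sum_congr rfl fun k hk =>
      Finset.sum_congr rfl fun g _ => hm.sum_apply_mul_conj hM hχ hk g]
  simp only [Finset.sum_add_distrib, Finset.sum_const, Finset.card_univ, nsmul_eq_mul,
    ← Finset.mul_sum, Finset.sum_sub_distrib, Nat.card_eq_fintype_card]
  ring

theorem Minimal.orth_regular (hm : Minimal p H) (hM : IsPModular p M) {x h : G}
    (hx : ¬ p ∣ orderOf x) (hh : h ∈ hsharp H) :
    ∑ χ ∈ (Set.toFinite (principalBlock M G)).toFinset, (χ : G → ℂ) x * (χ : G → ℂ) h = 0 := by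
  rw [mem_hsharp] at hh
  rw [← finsum_mem_eq_finite_toFinset_sum _ (Set.toFinite _)]
  exact Blocks.sum_block_regular_singular hM ZStar.isPBlock_principalBlock hx
    (hm.hyp.dvd_orderOf hh.1 hh.2)

/-- The weighted first moment. -/
theorem Minimal.moment (hm : Minimal p H) (hM : IsPModular p M) :
    ∑ χ ∈ (Set.toFinite (principalBlock M G)).toFinset,
      (wsum H (χ : G → ℂ) * wsum H (χ : G → ℂ) / (χ : G → ℂ) 1 -
        (((hsharp H).card : ℂ) - 1) * wsum H (χ : G → ℂ)) * wsum H (χ : G → ℂ) = 0 := by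
  have hG : (Nat.card G : ℂ) ≠ 0 := Nat.cast_ne_zero.2 Nat.card_pos.ne'
  refine (mul_eq_zero.1 ?_).resolve_left hG
  rw [Finset.mul_sum]
  simp_rw [← mul_assoc]
  rw [Finset.sum_congr rfl fun χ hχ => by
    rw [hm.sq_wsum hM ((Set.Finite.mem_toFinset _).1 hχ), Finset.sum_mul_sum]]
  rw [Finset.sum_comm]
  refine Finset.sum_eq_zero fun k hk => ?_
  rw [Finset.sum_comm]
  refine Finset.sum_eq_zero fun h hh => ?_
  simp only [Finset.sum_mul]
  rw [Finset.sum_comm]
  exact Finset.sum_eq_zero fun g _ =>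
    hm.orth_regular hM (not_dvd_regElt hm.hyp (mem_hsharp.1 hk).1 g) hh

/-- Norm of the column of a `p`-element in the principal block. -/
theorem exists_column_norm (hM : IsPModular p M) {x : G} (hx : ∃ k : ℕ, orderOf x = p ^ k)
    (Q : Subgroup G) (hQ : IsPGroup p Q) (hQC : Q ≤ Subgroup.centralizer ({x} : Set G)) :
    ∃ N : ℕ, Nat.card Q ≤ N ∧
      ∑ χ ∈ (Set.toFinite (principalBlock M G)).toFinset,
        (χ : G → ℂ) x * conj ((χ : G → ℂ) x) = (N : ℂ) := by
  have := Fintype.ofFinite (IrrCharacter G)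
  set C := Subgroup.centralizer ({x} : Set G) with hC
  have := Fintype.ofFinite (IrrCharacter C)
  set b := principalBlock M C
  have h1C : ¬ p ∣ orderOf (1 : C) := by rw [orderOf_one]; exact (Fact.out : p.Prime).not_dvd_one
  have hS := Blocks.sum_all_blockPart_mul hM hx (ZStar.isPBlock_principalBlock (G := C) (M := M))
    h1C h1C
  rw [← Finset.sum_subset (Finset.subset_univ (Set.toFinite (principalBlock M G)).toFinset)
    fun χ _ hχ => by
      rw [Set.Finite.mem_toFinset] at hχ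
      rw [Blocks.blockPart_eq_zero_of_not_induced hM hx (Blocks.isPBlock_blockOf χ)
        (Blocks.mem_blockOf_self χ) ZStar.isPBlock_principalBlock (fun hind => ?_) h1C, zero_mul]
      have hdef : InducedBlockDefined M C (principalBlock M C) := ⟨_, hind⟩
      have h2 := (Cfsg.Agent.S0936.result p M hM C _ hdef).2 rfl
      exact hχ (Blocks.IsInducedBlock.eq h2 hind ▸ Blocks.mem_blockOf_self χ)] at hS
  rw [Finset.sum_congr rfl fun χ hχ => by
    rw [← ZStar.apply_mul_eq_blockPart hM hx ((Set.Finite.mem_toFinset _).1 hχ) h1C,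
      Subgroup.coe_one, mul_one]] at hS
  set A := (Set.toFinite b).toFinset
  have hdeg : ∀ ψ : IrrCharacter C, (ψ : C → ℂ) 1 = (charDegree (ψ : C → ℂ) : ℂ) := fun ψ => by
    obtain ⟨n, ρ, -, hρ, hn⟩ := CharDegree.exists_rep ψ
    rw [← hn, ← hρ, Representation.char_one, Module.finrank_fin_fun]
  set N := ∑ ψ ∈ A, charDegree (ψ : C → ℂ) * charDegree (ψ : C → ℂ) with hN
  refine ⟨N, ?_, ?_⟩
  · refine Nat.le_of_dvd ?_ ?_
    · refine Finset.sum_pos (fun ψ _ => ?_) ⟨Char.trivChar C,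
        (Set.Finite.mem_toFinset _).2 ZStar.trivChar_mem_principalBlock⟩
      obtain ⟨n, hn0, hn⟩ := Char.IsIrr.exists_degree ψ.2
      have : charDegree (ψ : C → ℂ) = n := by exact_mod_cast (hdeg ψ).symm.trans hn
      rw [this]
      positivity
    · -- the class function `c ↦ ∑ ψ 1 ψ c` vanishes on `Q#`
      let θ : C → ℂ := ∑ ψ : IrrCharacter C,
        ((if ψ ∈ A then charDegree (ψ : C → ℂ) else 0 : ℕ) : ℂ) • (ψ : C → ℂ)
      have hθ : IsCharacter C θ := Char.isCharacter_natCast_sum _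
      have hθapply : ∀ c, θ c = ∑ ψ ∈ A, (ψ : C → ℂ) 1 * (ψ : C → ℂ) c := fun c => by
        simp only [θ, Finset.sum_apply, Pi.smul_apply, smul_eq_mul, Nat.cast_ite, Nat.cast_zero,
          ite_mul, zero_mul, Finset.sum_ite_mem, Finset.univ_inter, hdeg]
      let Q' := Q.subgroupOf C
      have := Fintype.ofFinite Q'
      obtain ⟨n, hn⟩ := Char.IsChar.classInner_eq_natCast (Char.IsChar.restrict Q' hθ)
        (Char.isCharacter_one (G := Q'))
      rw [Cfsg.classInner, Finset.sum_eq_single (1 : Q')] at hn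
      · have hcard : Nat.card Q' = Nat.card Q :=
          Nat.card_congr (Subgroup.subgroupOfEquivOfLe hQC).toEquiv
        refine ⟨n, ?_⟩
        have hθ1 : θ 1 = (N : ℂ) := by rw [hθapply, hN]; simp [hdeg]
        simp only [Subgroup.coe_one, hθ1, map_one, mul_one] at hn
        rw [inv_mul_eq_iff_eq_mul₀ (Nat.cast_ne_zero.2 Nat.card_pos.ne'), hcard] at hn
        exact_mod_cast hn
      · intro c _ hc
        have hpd : p ∣ orderOf (c : C) := by
          obtain ⟨i, hi⟩ := IsPGroup.iff_orderOf.1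
            (hQ.comap_of_injective C.subtype C.subtype_injective) c
          have hi' : orderOf c = p ^ i := hi
          rw [Subgroup.orderOf_coe, hi']
          rcases Nat.eq_zero_or_pos i with rfl | hpos
          · exact absurd (orderOf_eq_one_iff.1 (by rw [hi', pow_zero])) hc
          · exact dvd_pow_self p hpos.ne'
        have := Blocks.sum_block_regular_singular hM (ZStar.isPBlock_principalBlock (G := C) (M := M))
          h1C hpd
        rw [finsum_mem_eq_finite_toFinset_sum _ (Set.toFinite _)] at this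
        show θ (c : C) * _ = 0
        rw [hθapply, this, zero_mul]
      · simp
  · rw [hS, hN, Nat.cast_sum]
    refine Finset.sum_congr rfl fun ψ _ => ?_
    rw [Nat.cast_mul, hdeg, map_natCast]

/-- The second moment is large when no element of `H#` is fixed by the normaliser. -/
theorem Minimal.second_moment (hm : Minimal p H) (hM : IsPModular p M)
    (hmove : ∀ h ∈ hsharp H, ∃ n ∈ Subgroup.normalizer (H : Set G), n * h * n⁻¹ ≠ h) :
    ∃ T : ℕ, 2 * Nat.card H * (hsharp H).card ≤ T ∧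
      ∑ χ ∈ (Set.toFinite (principalBlock M G)).toFinset,
        wsum H (χ : G → ℂ) * conj (wsum H (χ : G → ℂ)) = (T : ℂ) := by
  have hcolumn : ∀ k : G, ∃ N : ℕ, k ∈ hsharp H → Nat.card H ≤ N ∧
      ∑ χ ∈ (Set.toFinite (principalBlock M G)).toFinset,
        (χ : G → ℂ) k * conj ((χ : G → ℂ) k) = (N : ℂ) := fun k => by
    by_cases hk : k ∈ hsharp H
    · obtain ⟨hkH, -⟩ := mem_hsharp.1 hk
      obtain ⟨N, hN⟩ := exists_column_norm hM (hm.hyp.exists_orderOf hkH) H hm.hyp.pgroup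
        fun h hh => Subgroup.mem_centralizer_singleton_iff.2 (hm.hyp.commute hh hkH).eq
      exact ⟨N, fun _ => hN⟩
    · exact ⟨0, fun h => absurd h hk⟩
  choose N hN using hcolumn
  refine ⟨∑ k ∈ hsharp H, ((hsharp H).filter fun l => IsConj k l).card * N k, ?_, ?_⟩
  · rw [show 2 * Nat.card H * (hsharp H).card = ∑ _k ∈ hsharp H, 2 * Nat.card H by
      rw [Finset.sum_const, smul_eq_mul]; ring]
    refine Finset.sum_le_sum fun k hk => Nat.mul_le_mul ?_ (hN k hk).1
    obtain ⟨n, hn, hne⟩ := hmove k hk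
    rw [← Finset.card_pair (Ne.symm hne)]
    refine Finset.card_le_card (Finset.insert_subset ?_ (Finset.singleton_subset_iff.2 ?_))
    · exact Finset.mem_filter.2 ⟨hk, IsConj.refl k⟩
    · refine Finset.mem_filter.2 ⟨mem_hsharp.2 ⟨(Subgroup.mem_normalizer_iff.1 hn k).1
        (mem_hsharp.1 hk).1, fun h => (mem_hsharp.1 hk).2 ?_⟩, isConj_iff.2 ⟨n, rfl⟩⟩
      rwa [mul_inv_eq_one, mul_eq_left] at h
  · simp only [wsum, map_sum, Finset.sum_mul_sum]
    rw [Finset.sum_comm, Nat.cast_sum]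
    refine Finset.sum_congr rfl fun k hk => ?_
    rw [Finset.sum_comm, Nat.cast_mul, ← (hN k hk).2, Finset.card_filter, Nat.cast_sum,
      Finset.sum_mul]
    refine Finset.sum_congr rfl fun l hl => ?_
    by_cases hkl : IsConj k l
    · obtain ⟨c, rfl⟩ := isConj_iff.1 hkl
      simp [hkl, Char.IsIrr.isClassFunction]
      refine Finset.sum_congr rfl fun χ _ => ?_
      rw [Char.IsIrr.isClassFunction χ.2 k c]
    · rw [if_neg hkl, Nat.cast_zero, zero_mul]
      have h := Blocks.sum_block_apply_mul_eq_zero hM (ZStar.isPBlock_principalBlock (G := G) (M := M))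
        (isPPart_self (hm.hyp.exists_orderOf (mem_hsharp.1 hk).1))
        (isPPart_self (hm.hyp.exists_orderOf (mem_hsharp.1 hl).1)) hkl
      rw [finsum_mem_eq_finite_toFinset_sum _ (Set.toFinite _)] at h
      rw [← h]
      exact Finset.sum_congr rfl fun χ _ => by rw [Char.IsIrr.map_inv χ.2]

/-- `∑ χ ∈ B₀, χ(1) w_χ = 0`. -/
theorem Minimal.degree_moment (hm : Minimal p H) (hM : IsPModular p M) :
    ∑ χ ∈ (Set.toFinite (principalBlock M G)).toFinset,
      (χ : G → ℂ) 1 * wsum H (χ : G → ℂ) = 0 := by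
  simp only [wsum, Finset.mul_sum]
  rw [Finset.sum_comm]
  exact Finset.sum_eq_zero fun h hh =>
    hm.orth_regular hM (by rw [orderOf_one]; exact (Fact.out : p.Prime).not_dvd_one) hh

omit [Fintype G] in
theorem sum_subgroup_char {n : ℕ} (ρ : Representation ℂ G (Fin n → ℂ)) (U : Subgroup G)
    [Fintype U] : ∑ u : U, ρ.character (u : G) =
      (Nat.card U : ℂ) * (Module.finrank ℂ (Representation.invariants (ρ.comp U.subtype)) : ℂ) := by
  have : Invertible (Nat.card U : ℂ) := invertibleOfNonzero (Nat.cast_ne_zero.2 Nat.card_pos.ne')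
  have h := FDRep.average_char_eq_finrank_invariants (FDRep.of (ρ.comp U.subtype))
  rw [inv_mul_eq_iff_eq_mul₀ (Nat.cast_ne_zero.2 Nat.card_pos.ne')] at h
  exact h

theorem sum_subgroup_eq_one_add (χ : G → ℂ) :
    ∑ h : H, χ (h : G) = χ 1 + wsum H χ := by
  rw [← Finset.sum_subtype (Finset.univ.filter fun h => h ∈ H) (by simp) χ,
    show (Finset.univ.filter fun h => h ∈ H) = insert (1 : G) (hsharp H) by
      ext h; by_cases h1 : h = 1 <;> simp [h1, H.one_mem],
    Finset.sum_insert (by simp)]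

/-- `w_χ` is real. -/
theorem exists_wsum_eq (χ : IrrCharacter G) :
    ∃ (D : ℕ) (W : ℤ), 0 < D ∧ (χ : G → ℂ) 1 = D ∧ wsum H (χ : G → ℂ) = W := by
  obtain ⟨n, ρ, -, hρ, -⟩ := CharDegree.exists_rep χ
  obtain ⟨D, hD, hD1⟩ := Char.IsIrr.exists_degree χ.2
  refine ⟨D, (Nat.card H * Module.finrank ℂ (Representation.invariants (ρ.comp H.subtype)) : ℤ) - D,
    hD, hD1, ?_⟩
  have h := sum_subgroup_char ρ H
  rw [hρ, sum_subgroup_eq_one_add, hD1] at h
  push_cast
  linear_combination h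

/-- The pair group of `g` fixes at least `w_χ / (|H| - 1)` dimensions. -/
theorem Minimal.fixed_pair (hm : Minimal p H) (hM : IsPModular p M) {χ : IrrCharacter G}
    (hχ : χ ∈ principalBlock M G) {n : ℕ} (ρ : Representation ℂ G (Fin n → ℂ))
    (hρ : ρ.character = (χ : G → ℂ)) {W : ℤ} (hW : wsum H (χ : G → ℂ) = W) (g : G) :
    W ≤ ((hsharp H).card : ℤ) *
      Module.finrank ℂ (Representation.invariants (ρ.comp (pairGrp H g).subtype)) := by
  set K := pairGrp H g
  set O := pPrimeCore p K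
  have := Fintype.ofFinite (IrrCharacter (K ⧸ O))
  let e : O × (H.subgroupOf K) ≃ K := Equiv.ofBijective (fun x => (x.1 : K) * x.2) (hm.hyp.complement g)
  have hval : ∀ (o : O) (h : H.subgroupOf K), h ≠ 1 →
      (χ : G → ℂ) (((o : K) : G) * ((h : K) : G)) = (χ : G → ℂ) ((h : K) : G) := by
    intro o h hne
    rw [Char.IsChar.map_mul_comm (Char.IsIrr.isCharacter χ.2)]
    exact hm.apply_mul hM hχ h.2 (fun hh => hne (Subtype.ext (Subtype.ext hh)))
      ⟨(o : K), o.2, rfl⟩
  set δ := ∑ o : O, (χ : G → ℂ) ((o : K) : G) with hδ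
  have hbig : ∀ f : K → ℂ, ∑ k : K, f k = ∑ h : H.subgroupOf K, ∑ o : O, f ((o : K) * h) := by
    intro f
    rw [← e.sum_comp f, Fintype.sum_prod_type, Finset.sum_comm]
    rfl
  have hW' : ∑ h ∈ (Finset.univ : Finset (H.subgroupOf K)).erase 1, (χ : G → ℂ) ((h : K) : G) =
      (W : ℂ) := by
    have h1 : ∑ h : H.subgroupOf K, (χ : G → ℂ) ((h : K) : G) = ∑ h : H, (χ : G → ℂ) (h : G) :=
      Fintype.sum_equiv (Subgroup.subgroupOfEquivOfLe le_sup_left).toEquiv _ _ fun _ => rfl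
    rw [sum_subgroup_eq_one_add, hW, ← Finset.add_sum_erase _ _ (Finset.mem_univ 1)] at h1
    simp only [Subgroup.coe_one] at h1
    exact add_left_cancel h1
  have hq : ((Finset.univ : Finset (H.subgroupOf K)).erase 1).card = (hsharp H).card := by
    rw [Finset.card_erase_of_mem (Finset.mem_univ _), Finset.card_univ, ← Nat.card_eq_fintype_card,
      Nat.card_congr (Subgroup.subgroupOfEquivOfLe (le_sup_left : H ≤ K)).toEquiv,
      ← card_hsharp_add_one]
    rfl
  have hmk1 : ∀ (o : O) (h : H.subgroupOf K),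
      (QuotientGroup.mk' O ((o : K) * h) = 1) ↔ h = 1 := by
    intro o h
    rw [map_mul, show QuotientGroup.mk' O (o : K) = 1 from (QuotientGroup.eq_one_iff _).2 o.2,
      one_mul]
    refine ⟨fun hh => ?_, fun hh => by rw [hh, Subgroup.coe_one, map_one]⟩
    have := hm.hyp.eq_one_of_mem (g := g) h.2 ⟨(h : K), (QuotientGroup.eq_one_iff _).1 hh, rfl⟩
    exact Subtype.ext (Subtype.ext this)
  have hcardQ : Nat.card (K ⧸ O) = (hsharp H).card + 1 := by
    rw [card_hsharp_add_one,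
      ← Nat.card_congr (Subgroup.subgroupOfEquivOfLe (le_sup_left : H ≤ K)).toEquiv,
      ← Subgroup.index_eq_card, (hm.hyp.complement g).symm.index_eq_card]
  -- the regular character of `K/O` minus the trivial one
  let η₀ : K ⧸ O → ℂ := ∑ ψ : IrrCharacter (K ⧸ O),
    ((if ψ = Char.trivChar (K ⧸ O) then 0 else charDegree (ψ : K ⧸ O → ℂ) : ℕ) : ℂ) •
      (ψ : K ⧸ O → ℂ)
  have hη : ∀ q : K ⧸ O, η₀ q = if q = 1 then ((hsharp H).card : ℂ) else -1 := by
    intro q
    have hdeg : ∀ ψ : IrrCharacter (K ⧸ O),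
        (ψ : K ⧸ O → ℂ) 1 = (charDegree (ψ : K ⧸ O → ℂ) : ℂ) := fun ψ => by
      obtain ⟨n, ρ, -, hρ, hn⟩ := CharDegree.exists_rep ψ
      rw [← hn, ← hρ, Representation.char_one, Module.finrank_fin_fun]
    have h1 : η₀ q = ∑ ψ : IrrCharacter (K ⧸ O), (ψ : K ⧸ O → ℂ) 1 * (ψ : K ⧸ O → ℂ) q - 1 := by
      simp only [η₀, Finset.sum_apply, Pi.smul_apply, smul_eq_mul]
      rw [← Finset.sum_erase_add _ _ (Finset.mem_univ (Char.trivChar (K ⧸ O))),
        ← Finset.sum_erase_add (f := fun ψ : IrrCharacter (K ⧸ O) =>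
          (ψ : K ⧸ O → ℂ) 1 * (ψ : K ⧸ O → ℂ) q) _ (Finset.mem_univ (Char.trivChar (K ⧸ O)))]
      simp only [if_pos, Nat.cast_zero, zero_mul, add_zero, Char.trivChar_apply, mul_one,
        add_sub_cancel_right]
      refine Finset.sum_congr rfl fun ψ hψ => ?_
      rw [if_neg (Finset.mem_erase.1 hψ).1, hdeg]
    rw [h1]
    split_ifs with hq1
    · subst hq1
      have h2 := Char.sum_sq_degree (G := K ⧸ O)
      simp only [sq] at h2
      rw [h2, hcardQ]
      push_cast
      ring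
    · rw [Char.sum_degree_mul_apply_of_ne_one hq1, zero_sub]
  have hχK : IsCharacter K (fun k : K => (χ : G → ℂ) (k : G)) :=
    Char.IsChar.restrict K (Char.IsIrr.isCharacter χ.2)
  obtain ⟨m, hm'⟩ := Char.IsChar.classInner_eq_natCast hχK
    (Char.IsChar.comp (QuotientGroup.mk' O) (Char.isCharacter_natCast_sum (G := K ⧸ O)
      fun ψ => if ψ = Char.trivChar (K ⧸ O) then 0 else charDegree (ψ : K ⧸ O → ℂ)))
  change Cfsg.classInner _ (fun k : K => η₀ (QuotientGroup.mk' O k)) = _ at hm'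
  rw [Cfsg.classInner, inv_mul_eq_iff_eq_mul₀ (Nat.cast_ne_zero.2 Nat.card_pos.ne'), hbig,
    ← Finset.sum_erase_add _ _ (Finset.mem_univ (1 : H.subgroupOf K))] at hm'
  have e1 : ∀ h ∈ (Finset.univ : Finset (H.subgroupOf K)).erase 1,
      ∑ o : O, (χ : G → ℂ) (((o : K) * h : K) : G) * conj (η₀ (QuotientGroup.mk' O ((o : K) * h))) =
        -((Nat.card O : ℂ) * (χ : G → ℂ) ((h : K) : G)) := by
    intro h hh
    have hne := (Finset.mem_erase.1 hh).1
    rw [Finset.sum_congr rfl fun o _ => by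
      rw [Subgroup.coe_mul, hval o h hne, hη, if_neg (fun q => hne ((hmk1 o h).1 q)), map_neg,
        map_one]]
    simp [Nat.card_eq_fintype_card]
  have e2 : ∑ o : O, (χ : G → ℂ) (((o : K) * (1 : H.subgroupOf K) : K) : G) *
      conj (η₀ (QuotientGroup.mk' O ((o : K) * (1 : H.subgroupOf K)))) =
        ((hsharp H).card : ℂ) * δ := by
    rw [hδ, Finset.mul_sum]
    refine Finset.sum_congr rfl fun o _ => ?_
    rw [hη, if_pos ((hmk1 o 1).2 rfl), map_natCast, Subgroup.coe_one, mul_one, mul_comm]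
  rw [Finset.sum_congr rfl e1, e2, Finset.sum_neg_distrib, ← Finset.mul_sum, hW'] at hm'
  have hfix := sum_subgroup_char ρ K
  rw [hρ, hbig, ← Finset.sum_erase_add _ _ (Finset.mem_univ (1 : H.subgroupOf K))] at hfix
  have e3 : ∀ h ∈ (Finset.univ : Finset (H.subgroupOf K)).erase 1,
      ∑ o : O, (χ : G → ℂ) (((o : K) * h : K) : G) = (Nat.card O : ℂ) * (χ : G → ℂ) ((h : K) : G) := by
    intro h hh
    rw [Finset.sum_congr rfl fun o _ => by
      rw [Subgroup.coe_mul, hval o h (Finset.mem_erase.1 hh).1]]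
    simp [Nat.card_eq_fintype_card]
  rw [Finset.sum_congr rfl e3, ← Finset.mul_sum, hW'] at hfix
  simp only [Subgroup.coe_one, mul_one, ← hδ] at hfix
  set f := Module.finrank ℂ (Representation.invariants (ρ.comp K.subtype))
  have hK : Nat.card K = ((hsharp H).card + 1) * Nat.card O := by
    rw [← hcardQ, ← Subgroup.index_eq_card]
    exact (Subgroup.index_mul_card O).symm
  rw [hK] at hm' hfix
  push_cast at hm' hfix
  set a : ℂ := ((hsharp H).card : ℂ)
  set o : ℂ := (Nat.card O : ℂ)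
  have ho : o ≠ 0 := Nat.cast_ne_zero.2 Nat.card_pos.ne'
  have ha1 : a + 1 ≠ 0 := by
    simp only [a]; exact_mod_cast Nat.succ_ne_zero (hsharp H).card
  have hfinal : a * (f : ℂ) = (m : ℂ) + (W : ℂ) := by
    refine mul_left_cancel₀ (mul_ne_zero ha1 ho) ?_
    linear_combination -a * hfix + hm'
  have : ((hsharp H).card : ℤ) * (f : ℤ) = (m : ℤ) + W := by
    apply Int.cast_injective (α := ℂ)
    push_cast
    exact hfinal
  omega

theorem finrank_inf_pos {V : Type*} [AddCommGroup V] [Module ℂ V] [FiniteDimensional ℂ V]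
    {A B C : Submodule ℂ V} (hA : A ≤ C) (hB : B ≤ C)
    (h : Module.finrank ℂ C < Module.finrank ℂ A + Module.finrank ℂ B) : A ⊓ B ≠ ⊥ := by
  intro hbot
  have h1 := Submodule.finrank_sup_add_finrank_inf_eq A B
  have h2 : Module.finrank ℂ (A ⊔ B : Submodule ℂ V) ≤ Module.finrank ℂ C :=
    Submodule.finrank_mono (sup_le hA hB)
  rw [hbot, finrank_bot] at h1
  omega

theorem invariants_comp_mono {n : ℕ} (ρ : Representation ℂ G (Fin n → ℂ)) {U V : Subgroup G}
    (h : U ≤ V) : Representation.invariants (ρ.comp V.subtype) ≤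
      Representation.invariants (ρ.comp U.subtype) :=
  fun _ hv u => hv ⟨u, h u.2⟩

/-- A nontrivial principal block character with many fixed points. -/
theorem Minimal.exists_char (hm : Minimal p H) (hM : IsPModular p M)
    (hmove : ∀ h ∈ hsharp H, ∃ n ∈ Subgroup.normalizer (H : Set G), n * h * n⁻¹ ≠ h) :
    ∃ χ ∈ principalBlock M G, χ ≠ Char.trivChar G ∧ ∃ (D : ℕ) (W : ℤ),
      0 < D ∧ (χ : G → ℂ) 1 = D ∧ wsum H (χ : G → ℂ) = W ∧
        ((hsharp H).card : ℤ) * D < ((hsharp H).card + 2) * W := by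
  by_contra hno
  push Not at hno
  choose D W hD0 hD hW using fun χ : IrrCharacter G => exists_wsum_eq (H := H) χ
  set B := (Set.toFinite (principalBlock M G)).toFinset with hB
  set a : ℕ := (hsharp H).card with ha
  have ha2 : 2 ≤ a := by
    obtain ⟨h₀, hh₀, h01⟩ : ∃ h₀ ∈ H, h₀ ≠ 1 := by
      by_contra hc
      push Not at hc
      exact hm.ne_bot ((Subgroup.eq_bot_iff_forall H).2 hc)
    obtain ⟨n, hn, hne⟩ := hmove h₀ (mem_hsharp.2 ⟨hh₀, h01⟩)
    rw [ha, ← Finset.card_pair (Ne.symm hne)]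
    refine Finset.card_le_card (Finset.insert_subset (mem_hsharp.2 ⟨hh₀, h01⟩)
      (Finset.singleton_subset_iff.2 (mem_hsharp.2 ⟨(Subgroup.mem_normalizer_iff.1 hn h₀).1 hh₀,
        fun h => h01 (by rwa [mul_inv_eq_one, mul_eq_left] at h)⟩)))
  have htriv : Char.trivChar G ∈ B := (Set.Finite.mem_toFinset _).2 ZStar.trivChar_mem_principalBlock
  have hWt : W (Char.trivChar G) = a := by
    have := hW (Char.trivChar G)
    simp only [wsum, Char.trivChar_apply, Finset.sum_const, nsmul_eq_mul, mul_one] at this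
    exact_mod_cast this.symm
  have hDt : D (Char.trivChar G) = 1 := by
    have := hD (Char.trivChar G)
    rw [Char.trivChar_apply] at this
    exact_mod_cast this.symm
  -- the three moments
  have h1 : ∑ χ ∈ B, ((W χ : ℝ) / (D χ : ℝ) - ((a : ℝ) - 1)) * (W χ : ℝ) ^ 2 = 0 := by
    have h := hm.moment hM
    simp only [hW, hD] at h
    apply Complex.ofReal_injective
    push_cast
    rw [← h]
    exact Finset.sum_congr rfl fun χ _ => by ring
  have h2 : ∑ χ ∈ B, (D χ : ℝ) * (W χ : ℝ) = 0 := by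
    have h := hm.degree_moment hM
    simp only [hW, hD] at h
    apply Complex.ofReal_injective
    push_cast
    exact h
  obtain ⟨T, hT, hT'⟩ := hm.second_moment hM hmove
  have h3 : ∑ χ ∈ B, (W χ : ℝ) ^ 2 = (T : ℝ) := by
    simp only [hW] at hT'
    apply Complex.ofReal_injective
    push_cast
    rw [← hT']
    exact Finset.sum_congr rfl fun χ _ => by simp [sq]
  rw [← Finset.add_sum_erase _ _ htriv, hWt] at h1 h2 h3
  rw [hDt] at h1 h2
  set E := B.erase (Char.trivChar G)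
  set θ : ℝ := (a : ℝ) / ((a : ℝ) + 2) with hθ
  have haR : (2 : ℝ) ≤ a := by exact_mod_cast ha2
  have hbound : ∀ χ ∈ E, (W χ : ℝ) / (D χ : ℝ) ≤ θ := by
    intro χ hχ
    obtain ⟨hne, hχB⟩ := Finset.mem_erase.1 hχ
    have hd : (0 : ℝ) < D χ := by exact_mod_cast hD0 χ
    rw [hθ, div_le_div_iff₀ hd (by linarith)]
    have := hno χ ((Set.Finite.mem_toFinset _).1 hχB) hne (D χ) (W χ) (hD0 χ) (hD χ) (hW χ)
    have h' : (((a + 2 : ℕ) : ℤ) * W χ : ℤ) ≤ (a : ℤ) * D χ := by push_cast; exact this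
    have h'' : ((((a + 2 : ℕ) : ℤ) * W χ : ℤ) : ℝ) ≤ (((a : ℤ) * D χ : ℤ) : ℝ) := Int.cast_le.2 h'
    push_cast at h''
    linarith
  obtain ⟨χ₀, hχ₀, hneg⟩ : ∃ χ ∈ E, (W χ : ℝ) < 0 := by
    by_contra hc
    push Not at hc
    have : 0 ≤ ∑ χ ∈ E, (D χ : ℝ) * (W χ : ℝ) :=
      Finset.sum_nonneg fun χ hχ => mul_nonneg (Nat.cast_nonneg _) (hc χ hχ)
    push_cast at h2
    linarith
  have hlt : ∑ χ ∈ E, (W χ : ℝ) / (D χ : ℝ) * (W χ : ℝ) ^ 2 < θ * ∑ χ ∈ E, (W χ : ℝ) ^ 2 := by
    rw [Finset.mul_sum]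
    refine Finset.sum_lt_sum (fun χ hχ => mul_le_mul_of_nonneg_right (hbound χ hχ) (sq_nonneg _))
      ⟨χ₀, hχ₀, mul_lt_mul_of_pos_right ?_ (sq_pos_iff.2 hneg.ne)⟩
    exact lt_of_lt_of_le (div_neg_of_neg_of_pos hneg (by exact_mod_cast hD0 χ₀))
      (by rw [hθ]; positivity)
  simp only [sub_mul, Finset.sum_sub_distrib, ← Finset.mul_sum] at h1
  push_cast at h1 h3
  set S := ∑ χ ∈ E, (W χ : ℝ) ^ 2
  have hS : (a : ℝ) * ((a : ℝ) + 2) ≤ S := by
    have hTR : ((2 * Nat.card H * a : ℕ) : ℝ) ≤ (T : ℝ) := Nat.cast_le.2 hT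
    rw [← card_hsharp_add_one, ← ha] at hTR
    push_cast at hTR
    nlinarith
  have hθ1 : θ ≤ 1 := by rw [hθ, div_le_one (by linarith)]; linarith
  have hmul : θ * ((a : ℝ) + 2) = a := by rw [hθ]; field_simp
  have hge : 0 ≤ (a : ℝ) - 1 - θ := by linarith
  have := mul_le_mul_of_nonneg_left hS hge
  nlinarith

end CfsgLib.LocalEvenB.ExtClosed
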