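import Cfsg.Agent.Lib.LocalEvenB.ExtremelyClosed.Minimal

/-!
# No element of `H#` is fixed by the normaliser in the minimal configuration
-/

set_option autoImplicit false

namespace CfsgLib.LocalEvenB.ExtClosed

open Cfsg Subgroup
open scoped ComplexConjugate Classical

variable {G : Type*} [Group G] [Fintype G] {p : ℕ} [Fact p.Prime] {H : Subgroup G}

/-- A Sylow subgroup containing `H` normalises it. -/
theorem Hyp.sylow_le_normalizer (hH : Hyp p H) (P : Sylow p G) (hP : H ≤ P) :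
    (P : Subgroup G) ≤ Subgroup.normalizer (H : Set G) := by
  by_contra hle
  set N := ((P : Subgroup G) ⊓ Subgroup.normalizer (H : Set G)).subgroupOf (P : Subgroup G) with hN
  have hlt : N < ⊤ := lt_top_iff_ne_top.2 fun h =>
    hle ((Subgroup.subgroupOf_eq_top.1 h).trans inf_le_right)
  have : Group.IsNilpotent (P : Subgroup G) := P.isPGroup'.isNilpotent
  obtain ⟨x, hxN, hxn⟩ := SetLike.exists_of_lt
    (Group.normalizerCondition_of_isNilpotent (G := (P : Subgroup G)) _ hlt)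
  refine hxn (Subgroup.mem_subgroupOf.2 ⟨x.2, ?_⟩)
  refine Subgroup.mem_normalizer_iff_map_conj_eq.2
    (Subgroup.eq_of_le_of_card_ge ?_
      (le_of_eq (Subgroup.card_map_of_injective (MulEquiv.injective _)).symm))
  rintro _ ⟨h, hh, rfl⟩
  refine hH.mem_of_conj_normalizes hh ?_
  have hmem : (⟨h, hP hh⟩ : (P : Subgroup G)) ∈ N := ⟨hP hh, Subgroup.le_normalizer hh⟩
  exact ((Subgroup.mem_normalizer_iff.1 hxN _).1 hmem).2

variable {M : Ideal AlgInt} [M.IsPrime]

/-- An element of order `p` of `H` fixed by the normaliser, for `p` odd, gives a contradiction. -/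
theorem Minimal.false_of_fixed_odd (hm : Minimal p H) (hM : IsPModular p M) (hp : p ≠ 2)
    (P : Sylow p G) (hP : H ≤ P) {x : G} (hx : x ∈ H) (hxo : orderOf x = p)
    (hfix : ∀ n ∈ Subgroup.normalizer (H : Set G), n * x * n⁻¹ = x) : False := by
  have := Fintype.ofFinite (IrrCharacter G)
  have hp3 : 3 ≤ p := by
    have := (Fact.out : p.Prime).two_le
    omega
  have hx1 : x ≠ 1 := fun h => by rw [h, orderOf_one] at hxo; omega
  have himg : ∀ (g : G) (j : ℕ), IsImg p H g (x ^ j) (x ^ j) := fun g j => by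
    have h := isImg_trans hm.hyp g (pow_mem hx j)
    rwa [← conj_pow, hfix _ (trans_mem hm.hyp g)] at h
  set B := (Set.toFinite (principalBlock M G)).toFinset
  have hcases : ∀ χ ∈ B, (χ : G → ℂ) x = 0 ∨
      ‖(χ : G → ℂ) x‖ = ‖(χ : G → ℂ) 1‖ := by
    intro χ hχ
    rw [Set.Finite.mem_toFinset] at hχ
    have h1 : (χ : G → ℂ) 1 ≠ 0 := Char.IsIrr.apply_one_ne_zero χ.2
    have hmul : ∀ i : ℕ, 1 ≤ i → i + 1 < p →
        (χ : G → ℂ) (x ^ i) * (χ : G → ℂ) x = (χ : G → ℂ) 1 * (χ : G → ℂ) (x ^ (i + 1)) := by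
      intro i hi1 hi
      have hG : (Nat.card G : ℂ) ≠ 0 := Nat.cast_ne_zero.2 Nat.card_pos.ne'
      refine mul_left_cancel₀ hG ?_
      have hne : x ^ i * x ≠ 1 := by
        rw [← pow_succ]
        exact pow_ne_one_of_lt_orderOf (Nat.succ_ne_zero i) (hxo ▸ hi)
      rw [CharAction.apply_mul_apply χ.2 (x ^ i) x, Finset.sum_congr rfl fun g _ =>
        hm.apply_mul_conj hM hχ (pow_mem hx i) hx (by simpa using himg g 1) hne,
        Finset.sum_const, Finset.card_univ, nsmul_eq_mul, ← Nat.card_eq_fintype_card, pow_succ]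
      ring
    set u := (χ : G → ℂ) x / (χ : G → ℂ) 1 with hu
    have hpow : ∀ i : ℕ, 1 ≤ i → i < p → (χ : G → ℂ) (x ^ i) = (χ : G → ℂ) 1 * u ^ i := by
      intro i hi1
      induction i, hi1 using Nat.le_induction with
      | base => intro _; rw [pow_one, pow_one, hu, mul_div_cancel₀ _ h1]
      | succ i hi ih =>
        intro hlt
        have h := hmul i hi hlt
        rw [ih (by omega)] at h
        refine mul_left_cancel₀ h1 ?_
        rw [← h, pow_succ, hu]
        field_simp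
    have hinv : x ^ (p - 1) = x⁻¹ := eq_inv_of_mul_eq_one_left (by
      rw [← pow_succ, show p - 1 + 1 = p by omega, ← hxo, pow_orderOf_eq_one])
    have h := hpow (p - 1) (by omega) (by omega)
    rw [hinv, Char.IsIrr.map_inv χ.2] at h
    have hn : ‖(χ : G → ℂ) 1‖ * ‖u‖ = ‖(χ : G → ℂ) 1‖ * ‖u‖ ^ (p - 1) := by
      have h' := congrArg (fun z : ℂ => ‖z‖) h
      simp only [Complex.norm_conj, norm_mul, norm_pow] at h'
      rw [← h', hu, norm_div, mul_div_cancel₀ _ (norm_ne_zero_iff.2 h1)]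
    have hn' := mul_left_cancel₀ (norm_ne_zero_iff.2 h1) hn
    by_cases hu0 : u = 0
    · exact Or.inl ((div_eq_zero_iff.1 (hu ▸ hu0)).resolve_right h1)
    · refine Or.inr ?_
      have h2 : ‖u‖ ^ (p - 2) = 1 := by
        refine mul_left_cancel₀ (norm_ne_zero_iff.2 hu0) ?_
        rw [mul_one, ← pow_succ', show p - 2 + 1 = p - 1 by omega, ← hn']
      have h3 : ‖u‖ = 1 := (pow_eq_one_iff_of_nonneg (norm_nonneg _) (by omega)).1 h2
      rw [hu, norm_div, div_eq_one_iff_eq (norm_ne_zero_iff.2 h1)] at h3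
      exact h3
  -- the normal closure of the commutators of `x`
  set L₀ := Subgroup.normalClosure (Set.range fun g : G => x * (g * x⁻¹ * g⁻¹)) with hL₀
  have hker : ∀ χ ∈ B, (χ : G → ℂ) x ≠ 0 → L₀ ≤ CharDegree.kerSubgroup χ := by
    intro χ hχ hne
    have := CharDegree.kerSubgroup_normal χ
    refine Subgroup.normalClosure_le_normal ?_
    rintro _ ⟨g, rfl⟩
    rw [SetLike.mem_coe, CharDegree.mem_kerSubgroup]
    have hnorm := (hcases χ hχ).resolve_left hne
    obtain ⟨D, hD, hD1⟩ := Char.IsIrr.exists_degree χ.2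
    have h := CharAction.apply_mul_apply χ.2 x x⁻¹
    rw [Char.IsIrr.map_inv χ.2, Complex.mul_conj, Complex.normSq_eq_norm_sq, hnorm, hD1,
      Complex.norm_natCast] at h
    have hsum : ∑ g : G, (χ : G → ℂ) (x * (g * x⁻¹ * g⁻¹)) = (Nat.card G : ℂ) * (D : ℂ) := by
      refine mul_left_cancel₀ (Nat.cast_ne_zero.2 hD.ne' : (D : ℂ) ≠ 0) ?_
      rw [← h]
      push_cast
      ring
    have hre : ∀ g : G, ((χ : G → ℂ) (x * (g * x⁻¹ * g⁻¹))).re ≤ (D : ℝ) := fun g => by
      have h1 := Char.IsChar.norm_le (Char.IsIrr.isCharacter χ.2) (x * (g * x⁻¹ * g⁻¹))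
      rw [hD1, Complex.norm_natCast] at h1
      exact (Complex.re_le_norm _).trans h1
    have heq : ((χ : G → ℂ) (x * (g * x⁻¹ * g⁻¹))).re = (D : ℝ) := by
      have h1 : ∑ g : G, ((χ : G → ℂ) (x * (g * x⁻¹ * g⁻¹))).re = ∑ _g : G, (D : ℝ) := by
        rw [← Complex.re_sum, hsum, Finset.sum_const, Finset.card_univ, nsmul_eq_mul,
          ← Nat.card_eq_fintype_card]
        simp
      exact (Finset.sum_eq_sum_iff_of_le fun g _ => hre g).1 h1 g (Finset.mem_univ g)
    have h1 := Char.IsChar.norm_le (Char.IsIrr.isCharacter χ.2) (x * (g * x⁻¹ * g⁻¹))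
    rw [hD1, Complex.norm_natCast, Complex.norm_def] at h1
    have h2 := Real.sqrt_le_iff.1 h1
    rw [Complex.normSq_apply, heq] at h2
    have him : ((χ : G → ℂ) (x * (g * x⁻¹ * g⁻¹))).im = 0 := by nlinarith [h2.2]
    rw [hD1]
    exact Complex.ext (by simpa using heq) (by simpa using him)
  -- `L₀ H = G`
  have hcomm : ∀ g : G, g * x * g⁻¹ ∈ L₀ ⊔ H := fun g => by
    have h1 : x * (g * x⁻¹ * g⁻¹) ∈ L₀ := Subgroup.subset_normalClosure ⟨g, rfl⟩
    have h2 : g * x * g⁻¹ = (x * (g * x⁻¹ * g⁻¹))⁻¹ * x := by group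
    rw [h2]
    exact mul_mem (mem_sup_left (inv_mem h1)) (mem_sup_right hx)
  have htop : L₀ ⊔ H = ⊤ := by
    by_contra hne
    set L := L₀ ⊔ H with hL
    set R := (pPrimeCore p L).map L.subtype with hR
    have hL₀L : L₀ ≤ L := le_sup_left
    have hLR : L ≤ Subgroup.normalizer (R : Set G) := le_normalizer_map_subtype _ _
    have hLL : ∀ r ∈ R, r ∈ L₀ := by
      rintro _ ⟨r, hr, rfl⟩
      obtain ⟨l, hl, h, hh, he⟩ := Subgroup.mem_sup_of_normal_left.1 r.2
      have hq : QuotientGroup.mk' L₀ (r : G) = QuotientGroup.mk' L₀ h := by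
        rw [← he, map_mul, show QuotientGroup.mk' L₀ l = 1 from (QuotientGroup.eq_one_iff _).2 hl,
          one_mul]
      show (r : G) ∈ L₀
      rw [← QuotientGroup.eq_one_iff]
      obtain ⟨i, hi⟩ := hm.hyp.exists_orderOf hh
      refine orderOf_eq_one_iff.1 (Nat.eq_one_of_dvd_coprimes
        (((Core.coprime_card_pPrimeCore p L).coprime_dvd_left
          (Subgroup.orderOf_dvd_natCard _ hr)).pow_right i) ?_ ?_)
      · rw [← Subgroup.orderOf_coe r]
        exact orderOf_map_dvd (QuotientGroup.mk' L₀) (r : G)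
      · show orderOf (QuotientGroup.mk' L₀ (r : G)) ∣ p ^ i
        rw [hq, ← hi]
        exact orderOf_map_dvd _ _
    have hRbot : R = ⊥ := by
      rw [← le_bot_iff, ← hm.core]
      intro r hr
      have hnr : (R.subgroupOf L₀).Normal := ⟨fun a ha b =>
        (Subgroup.mem_normalizer_iff.1 (hLR (hL₀L b.2)) a).1 ha⟩
      have hcop : (Nat.card (R.subgroupOf L₀)).Coprime p := by
        refine (Core.coprime_card_pPrimeCore p L).coprime_dvd_left ?_
        rw [Nat.card_congr (Subgroup.subgroupOfEquivOfLe (fun a ha => hLL a ha)).toEquiv]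
        exact Subgroup.card_map_dvd _ _
      exact Core.map_subtype_pPrimeCore_le L₀
        ⟨⟨r, hLL r hr⟩, Core.le_pPrimeCore hcop hr, rfl⟩
    have hLN : L ≤ Subgroup.normalizer (H : Set G) := by
      refine (hm.loc L hne le_sup_right).trans (sup_le inf_le_right ?_)
      rw [← hR, hRbot]
      exact bot_le
    refine hm.cent x hx hx1 (Subgroup.eq_top_iff' _ |>.2 fun g => ?_)
    have hgx : g * x * g⁻¹ ∈ H := hm.hyp.mem_of_conj_normalizes hx (hLN (hcomm g))
    obtain ⟨n, hn, he⟩ := hm.hyp.fusion hx hgx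
    rw [hfix n hn] at he
    exact Subgroup.mem_centralizer_singleton_iff.2 (mul_inv_eq_iff_eq_mul.1 he.symm)
  -- count the nonzero values at `x`
  have hidx : L₀.index ∣ Nat.card H := by
    have h1 := Subgroup.relIndex_sup_right H L₀
    rw [sup_comm, htop, Subgroup.relIndex_top_right] at h1
    exact h1 ▸ Subgroup.relIndex_dvd_card L₀ H
  have hPC : (P : Subgroup G) ≤ Subgroup.centralizer ({x} : Set G) := fun y hy =>
    Subgroup.mem_centralizer_singleton_iff.2
      (mul_inv_eq_iff_eq_mul.1 (hfix y (hm.hyp.sylow_le_normalizer P hP hy)))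
  obtain ⟨N, hPN, hN⟩ := exists_column_norm hM ⟨1, by rw [hxo, pow_one]⟩ (P : Subgroup G)
    P.isPGroup' hPC
  set X := B.filter fun χ : IrrCharacter G => (χ : G → ℂ) x ≠ 0 with hX
  have hdeg1 : ∀ χ ∈ X, (χ : G → ℂ) 1 = 1 := by
    intro χ hχ
    obtain ⟨hχB, hne⟩ := Finset.mem_filter.1 hχ
    have := CharDegree.kerSubgroup_normal χ
    obtain ⟨ψ, hψ⟩ := CharDegree.exists_infl L₀ χ fun g hg =>
      CharDegree.mem_kerSubgroup.1 (hker χ hχB hne hg)
    have hcomm' : IsMulCommutative (G ⧸ L₀) := by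
      refine ⟨⟨fun a b => ?_⟩⟩
      obtain ⟨a, rfl⟩ := QuotientGroup.mk'_surjective L₀ a
      obtain ⟨b, rfl⟩ := QuotientGroup.mk'_surjective L₀ b
      obtain ⟨l, hl, h, hh, rfl⟩ := Subgroup.mem_sup_of_normal_left.1 (htop ▸ Subgroup.mem_top a)
      obtain ⟨l', hl', h', hh', rfl⟩ := Subgroup.mem_sup_of_normal_left.1 (htop ▸ Subgroup.mem_top b)
      have e1 : QuotientGroup.mk' L₀ l = 1 := (QuotientGroup.eq_one_iff _).2 hl
      have e2 : QuotientGroup.mk' L₀ l' = 1 := (QuotientGroup.eq_one_iff _).2 hl'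
      rw [← map_mul, ← map_mul, map_mul, map_mul, map_mul, map_mul, map_mul, map_mul, e1, e2,
        one_mul, one_mul, ← map_mul, ← map_mul, (hm.hyp.commute hh hh').eq]
    rw [← hψ, CharDegree.infl_apply, QuotientGroup.mk_one]
    exact (CharDegree.charDegree_eq_one_iff ψ).1 (CharDegree.charDegree_of_comm hcomm'.is_comm.comm ψ)
  have hXN : (N : ℂ) = (X.card : ℂ) := by
    rw [← hN, Finset.cast_card, hX, Finset.sum_filter]
    refine Finset.sum_congr rfl fun χ hχ => ?_
    split_ifs with hne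
    · rw [Complex.mul_conj, Complex.normSq_eq_norm_sq, (hcases χ hχ).resolve_left hne,
        hdeg1 χ (Finset.mem_filter.2 ⟨hχ, hne⟩)]
      simp
    · rw [not_ne_iff.1 hne, zero_mul]
  have hXle : X.card ≤ L₀.index := by
    let F : X → (G ⧸ L₀ → ℂ) := fun χ q => (χ.1 : G → ℂ) q.out
    have hF : ∀ (χ : X) (g : G), F χ g = (χ.1 : G → ℂ) g := by
      intro χ g
      obtain ⟨hχB, hne⟩ := Finset.mem_filter.1 χ.2
      obtain ⟨ψ, hψ⟩ := CharDegree.exists_infl L₀ χ.1 fun g hg =>
        CharDegree.mem_kerSubgroup.1 (hker χ.1 hχB hne hg)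
      simp only [F]
      rw [← hψ, CharDegree.infl_apply, CharDegree.infl_apply, QuotientGroup.out_eq']
    have hli : LinearIndependent ℂ F := by
      let r : (G ⧸ L₀ → ℂ) →ₗ[ℂ] (G → ℂ) := LinearMap.funLeft ℂ ℂ (QuotientGroup.mk)
      refine LinearIndependent.of_comp r ?_
      have : (r ∘ F) = (fun χ : IrrCharacter G => (χ : G → ℂ)) ∘ (Subtype.val : X → IrrCharacter G) := by
        funext χ g
        exact hF χ g
      rw [this]
      exact (Char.irr_linearIndependent (G := G)).comp _ Subtype.val_injective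
    have h := hli.fintype_card_le_finrank
    rw [Module.finrank_fintype_fun_eq_card, Fintype.card_coe, ← Nat.card_eq_fintype_card] at h
    exact h
  have hNX : N = X.card := by exact_mod_cast hXN
  obtain ⟨i, hi⟩ := IsPGroup.iff_card.1 hm.hyp.pgroup
  obtain ⟨j, -, hj⟩ := (Nat.dvd_prime_pow (Fact.out : p.Prime)).1 (hi ▸ hidx)
  have hPj : Nat.card (P : Subgroup G) ≤ p ^ j := by omega
  rw [Sylow.card_eq_multiplicity] at hPj
  have hprime : (Nat.card L₀).Coprime p := by
    refine ((Fact.out : p.Prime).coprime_iff_not_dvd.2 fun hd => ?_).symm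
    have hdiv : p ^ (j + 1) ∣ Nat.card G := by
      rw [← L₀.card_mul_index, hj, pow_succ']
      exact Nat.mul_dvd_mul_right hd _
    have h1 := ((Fact.out : p.Prime).pow_dvd_iff_le_factorization Nat.card_pos.ne').1 hdiv
    have h2 := Nat.pow_lt_pow_right (Fact.out : p.Prime).one_lt
      (show j < (Nat.card G).factorization p by omega)
    omega
  have hbot : L₀ = ⊥ := le_bot_iff.1 (hm.core ▸ Core.le_pPrimeCore hprime)
  refine hm.cent x hx hx1 (Subgroup.eq_top_iff' _ |>.2 fun g => ?_)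
  have h1 : x * (g * x⁻¹ * g⁻¹) ∈ L₀ := Subgroup.subset_normalClosure ⟨g, rfl⟩
  rw [hbot, Subgroup.mem_bot] at h1
  rw [← mul_assoc, ← mul_assoc, mul_inv_eq_one, mul_inv_eq_iff_eq_mul] at h1
  exact Subgroup.mem_centralizer_singleton_iff.2 h1.symm

/-- No element of `H#` is fixed by the normaliser. -/
theorem Minimal.exists_move (hm : Minimal p H) (hM : IsPModular p M) {h : G} (hh : h ∈ hsharp H) :
    ∃ n ∈ Subgroup.normalizer (H : Set G), n * h * n⁻¹ ≠ h := by
  by_contra hc
  push Not at hc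
  rw [mem_hsharp] at hh
  obtain ⟨i, hi⟩ := hm.hyp.exists_orderOf hh.1
  have hi1 : i ≠ 0 := fun h0 => hh.2 (orderOf_eq_one_iff.1 (by rw [hi, h0, pow_zero]))
  obtain ⟨j, rfl⟩ := Nat.exists_eq_succ_of_ne_zero hi1
  set x := h ^ p ^ j with hxdef
  have hx : x ∈ H := pow_mem hh.1 _
  have hxo : orderOf x = p := by
    rw [hxdef, orderOf_pow_of_dvd (pow_ne_zero _ (Fact.out : p.Prime).ne_zero)
      (hi ▸ pow_dvd_pow p (Nat.le_succ j)), hi, pow_succ,
      Nat.mul_div_cancel_left _ (pow_pos (Fact.out : p.Prime).pos _)]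
  have hfix : ∀ n ∈ Subgroup.normalizer (H : Set G), n * x * n⁻¹ = x := fun n hn => by
    rw [hxdef, ← conj_pow, hc n hn]
  obtain ⟨P, hP⟩ := hm.hyp.pgroup.exists_le_sylow
  by_cases hp : p = 2
  · subst hp
    have hx1 : x ≠ 1 := fun h => by rw [h, orderOf_one] at hxo; omega
    have hiso : ∀ g : G, g * x * g⁻¹ ∈ P → g * x * g⁻¹ = x := fun g hg => by
      obtain ⟨n, hn, he⟩ := hm.hyp.fusion hx
        (hm.hyp.mem_of_conj_normalizes hx (hm.hyp.sylow_le_normalizer P hP hg))
      rw [← he, hfix n hn]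
    refine hm.cent x hx hx1 (Subgroup.eq_top_iff' _ |>.2 fun g => ?_)
    have h1 := ZStar.mem_oddCore_of_sylow P hxo (hP hx) hiso g
    rw [show oddCore G = ⊥ from hm.core, Subgroup.mem_bot, mul_inv_eq_one,
      mul_inv_eq_iff_eq_mul] at h1
    exact Subgroup.mem_centralizer_singleton_iff.2 h1.symm
  · exact hm.false_of_fixed_odd hM hp P hP hx hxo hfix

end CfsgLib.LocalEvenB.ExtClosed
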