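import Cfsg.Agent.Lib.Core.Cores
import Cfsg.Agent.Lib.Core.Coprime
import Cfsg.Agent.Lib.Blocks.Orthogonality
import Cfsg.Agent.Lib.Blocks.Sections
import Cfsg.Prelude.Def_SubgroupEmbedding

/-!
# Extremely closed abelian `p`-subgroups: the pair subgroups

For an extremely closed abelian `p`-subgroup `H` and `g ∈ G` the subgroup `pairGrp H g = ⟨H, gHg⁻¹⟩`
is `p`-nilpotent with Sylow subgroup `H`; `pairKer p H g` is its normal `p`-complement.
-/

set_option autoImplicit false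

namespace CfsgLib.LocalEvenB.ExtClosed

open Cfsg Subgroup

/-- Self-normalising abelian `p`-subgroups have normal complements. -/
theorem isComplement'_pPrimeCore {K : Type*} [Group K] [Finite K] {p : ℕ} [Fact p.Prime]
    (H : Subgroup K) (hp : IsPGroup p H) (hab : IsMulCommutative H)
    (hN : Subgroup.normalizer (H : Set K) = H) : IsComplement' (pPrimeCore p K) H := by
  obtain ⟨P, hP⟩ := hp.exists_le_sylow
  have hPH : (P : Subgroup K) = H := by
    by_contra hne
    have hlt : H.subgroupOf P < ⊤ := lt_top_iff_ne_top.2 fun h =>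
      hne (le_antisymm (Subgroup.subgroupOf_eq_top.1 h) hP)
    have : Group.IsNilpotent (P : Subgroup K) := P.isPGroup'.isNilpotent
    obtain ⟨x, hxN, hxH⟩ := SetLike.exists_of_lt
      (Group.normalizerCondition_of_isNilpotent (G := (P : Subgroup K)) _ hlt)
    refine hxH ?_
    rw [Subgroup.mem_subgroupOf, ← hN, Subgroup.mem_normalizer_iff]
    intro y
    rw [Subgroup.mem_normalizer_iff] at hxN
    constructor
    · intro hy
      exact (hxN ⟨y, hP hy⟩).1 hy
    · intro hy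
      have hyP : y ∈ (P : Subgroup K) := by
        have := (P : Subgroup K).mul_mem ((P : Subgroup K).mul_mem ((P : Subgroup K).inv_mem x.2)
          (hP hy)) x.2
        simpa [mul_assoc] using this
      exact (hxN ⟨y, hyP⟩).2 hy
  have hPN : Subgroup.normalizer ((P : Subgroup K) : Set K) ≤
      Subgroup.centralizer ((P : Subgroup K) : Set K) := by
    rw [hPH, hN]
    intro a ha
    rw [Subgroup.mem_centralizer_iff]
    intro b hb
    exact congrArg Subtype.val (hab.is_comm.comm (⟨b, hb⟩ : H) ⟨a, ha⟩)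
  have hc := MonoidHom.ker_transferSylow_isComplement' P hPN
  subst hPH
  suffices h : pPrimeCore p K = (MonoidHom.transferSylow P hPN).ker by rw [h]; exact hc
  have hcard : (Nat.card (MonoidHom.transferSylow P hPN).ker).Coprime p := by
    refine ((Fact.out : p.Prime).coprime_iff_not_dvd.2 ?_).symm
    rw [← hc.index_eq_card]
    exact P.not_dvd_index
  refine le_antisymm (fun x hx => ?_) (Core.le_pPrimeCore hcard)
  set π := MonoidHom.transferSylow P hPN
  have h1 : orderOf (π x) ∣ Nat.card (pPrimeCore p K) :=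
    (orderOf_map_dvd π x).trans (Subgroup.orderOf_dvd_natCard _ hx)
  obtain ⟨i, hi⟩ := IsPGroup.iff_orderOf.1 P.isPGroup' (π x)
  rw [hi] at h1
  have h2 : orderOf (π x) = 1 := by
    rw [hi]
    exact Nat.eq_one_of_dvd_coprimes ((Core.coprime_card_pPrimeCore p K).symm.pow_left i) dvd_rfl h1
  exact orderOf_eq_one_iff.1 h2

variable {G : Type*} [Group G]

/-- A subgroup normalises the images of its normal subgroups. -/
theorem le_normalizer_map_subtype (L : Subgroup G) (N : Subgroup L) [hN : N.Normal] :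
    L ≤ Subgroup.normalizer (N.map L.subtype : Set G) := by
  intro k hk
  rw [Subgroup.mem_normalizer_iff]
  intro y
  constructor
  · rintro ⟨z, hz, rfl⟩
    exact ⟨⟨k, hk⟩ * z * ⟨k, hk⟩⁻¹, hN.conj_mem z hz _, rfl⟩
  · rintro ⟨z, hz, he⟩
    refine ⟨(⟨k, hk⟩ : L)⁻¹ * z * ⟨k, hk⟩, ?_, ?_⟩
    · have := hN.conj_mem z hz (⟨k, hk⟩ : L)⁻¹
      simpa using this
    · simp only [Subgroup.subtype_apply, Subgroup.coe_mul, Subgroup.coe_inv] at he ⊢
      rw [he]
      group

/-- The subgroup generated by `H` and `gHg⁻¹`. -/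
abbrev pairGrp (H : Subgroup G) (g : G) : Subgroup G := H ⊔ H.map (MulAut.conj g).toMonoidHom

/-- The largest normal `p'`-subgroup of `pairGrp H g`, inside `G`. -/
abbrev pairKer (p : ℕ) (H : Subgroup G) (g : G) : Subgroup G :=
  (pPrimeCore p (pairGrp H g)).map (pairGrp H g).subtype

theorem conj_mem_pairGrp {H : Subgroup G} {h : G} (hh : h ∈ H) (g : G) :
    g * h * g⁻¹ ∈ pairGrp H g :=
  mem_sup_right ⟨h, hh, rfl⟩

/-- The standing hypotheses. -/
structure Hyp (p : ℕ) (H : Subgroup G) : Prop where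
  pgroup : IsPGroup p H
  comm : IsMulCommutative H
  closed : IsExtremelyClosed H

variable {p : ℕ} [Fact p.Prime] {H : Subgroup G}

omit [Fact p.Prime] in
theorem Hyp.commute (hH : Hyp p H) {a b : G} (ha : a ∈ H) (hb : b ∈ H) : Commute a b :=
  congrArg Subtype.val (hH.comm.is_comm.comm (⟨a, ha⟩ : H) ⟨b, hb⟩)

omit [Fact p.Prime] in
theorem Hyp.mem_of_normalizes (hH : Hyp p H) {g x : G} (hx : x ∈ pairGrp H g)
    (hn : x ∈ Subgroup.normalizer (H : Set G)) : x ∈ H :=
  (le_of_eq (hH.closed g)) ⟨hx, hn⟩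

variable [Finite G]

theorem Hyp.complement (hH : Hyp p H) (g : G) :
    IsComplement' (pPrimeCore p (pairGrp H g)) (H.subgroupOf (pairGrp H g)) := by
  refine isComplement'_pPrimeCore _
    (hH.pgroup.comap_of_injective _ (Subgroup.subtype_injective _))
    ⟨⟨fun a b => Subtype.ext (Subtype.ext (hH.commute a.2 b.2).eq)⟩⟩
    (le_antisymm (fun x hx => ?_) Subgroup.le_normalizer)
  rw [Subgroup.mem_subgroupOf]
  refine hH.mem_of_normalizes x.2 (Subgroup.mem_normalizer_iff.2 fun y => ?_)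
  rw [Subgroup.mem_normalizer_iff] at hx
  constructor
  · intro hy
    exact (hx ⟨y, (le_sup_left : H ≤ pairGrp H g) hy⟩).1 hy
  · intro hy
    have hyK : y ∈ pairGrp H g := by
      have := (pairGrp H g).mul_mem ((pairGrp H g).mul_mem ((pairGrp H g).inv_mem x.2)
        ((le_sup_left : H ≤ pairGrp H g) hy)) x.2
      simpa [mul_assoc] using this
    exact (hx ⟨y, hyK⟩).2 hy

theorem coprime_card_pairKer (H : Subgroup G) (g : G) :
    (Nat.card (pairKer p H g)).Coprime p := by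
  rw [Subgroup.card_map_of_injective (Subgroup.subtype_injective _)]
  exact Core.coprime_card_pPrimeCore p _

omit [Fact p.Prime] [Finite G] in
theorem pairKer_le (H : Subgroup G) (g : G) : pairKer p H g ≤ pairGrp H g :=
  Subgroup.map_subtype_le _

omit [Fact p.Prime] [Finite G] in
theorem pairGrp_le_normalizer (H : Subgroup G) (g : G) :
    pairGrp H g ≤ Subgroup.normalizer (pairKer p H g : Set G) :=
  le_normalizer_map_subtype _ _

theorem coprime_orderOf_of_mem_pairKer {x : G} {g : G} (hx : x ∈ pairKer p H g) :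
    (orderOf x).Coprime p :=
  (coprime_card_pairKer H g).coprime_dvd_left (Subgroup.orderOf_dvd_natCard _ hx)

theorem Hyp.eq_one_of_coprime (hH : Hyp p H) {x : G} (hx : x ∈ H)
    (h : (orderOf x).Coprime p) : x = 1 := by
  obtain ⟨i, hi⟩ := IsPGroup.iff_orderOf.1 hH.pgroup ⟨x, hx⟩
  rw [← Subgroup.orderOf_coe] at hi
  simp only at hi
  exact orderOf_eq_one_iff.1 (Nat.eq_one_of_dvd_coprimes (h.pow_right i) dvd_rfl (dvd_of_eq hi))

theorem Hyp.eq_one_of_mem (hH : Hyp p H) {x g : G} (hx : x ∈ H) (hO : x ∈ pairKer p H g) :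
    x = 1 :=
  hH.eq_one_of_coprime hx (coprime_orderOf_of_mem_pairKer hO)

theorem Hyp.decomp (hH : Hyp p H) {g k : G} (hk : k ∈ pairGrp H g) :
    ∃ h ∈ H, ∃ o ∈ pairKer p H g, k = h * o := by
  obtain ⟨⟨⟨h, hh⟩, ⟨o, ho⟩⟩, he⟩ := (hH.complement g).symm.2 ⟨k, hk⟩
  exact ⟨h, hh, o, ⟨o, ho, rfl⟩, (congrArg Subtype.val he).symm⟩

theorem Hyp.decomp' (hH : Hyp p H) {g k : G} (hk : k ∈ pairGrp H g) :
    ∃ o ∈ pairKer p H g, ∃ h ∈ H, k = o * h := by
  obtain ⟨⟨⟨o, ho⟩, ⟨h, hh⟩⟩, he⟩ := (hH.complement g).2 ⟨k, hk⟩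
  exact ⟨o, ⟨o, ho, rfl⟩, h, hh, (congrArg Subtype.val he).symm⟩

/-- The elements of order prime to `p` of `pairGrp H g` lie in `pairKer p H g`. -/
theorem Hyp.mem_pairKer (hH : Hyp p H) {g k : G} (hk : k ∈ pairGrp H g)
    (h : (orderOf k).Coprime p) : k ∈ pairKer p H g := by
  obtain ⟨a, ha, o, ho, rfl⟩ := hH.decomp hk
  suffices a = 1 by rwa [this, one_mul]
  have hsub : pairKer p H g ≤ pairGrp H g := pairKer_le H g
  let q := QuotientGroup.mk' (pPrimeCore p (pairGrp H g))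
  have haK : a ∈ pairGrp H g := (le_sup_left : H ≤ pairGrp H g) ha
  have hq : q ⟨a * o, hk⟩ = q ⟨a, haK⟩ := by
    obtain ⟨z, hz, rfl⟩ := ho
    simp only [Subgroup.subtype_apply]
    rw [show (⟨a * (z : G), hk⟩ : pairGrp H g) = ⟨a, haK⟩ * z from Subtype.ext rfl, map_mul,
      show q z = 1 from (QuotientGroup.eq_one_iff z).2 hz, mul_one]
  have h1 : (orderOf (q ⟨a, haK⟩)).Coprime p := by
    rw [← hq]
    exact h.coprime_dvd_left ((orderOf_map_dvd q _).trans (dvd_of_eq (Subgroup.orderOf_mk _ hk)))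
  have h2 : q ⟨a, haK⟩ = 1 := by
    obtain ⟨i, hi⟩ := IsPGroup.iff_orderOf.1 hH.pgroup ⟨a, ha⟩
    refine orderOf_eq_one_iff.1 (Nat.eq_one_of_dvd_coprimes (h1.pow_right i) dvd_rfl ?_)
    refine (orderOf_map_dvd q _).trans (dvd_of_eq ?_)
    rw [Subgroup.orderOf_mk, ← hi, Subgroup.orderOf_mk]
  exact hH.eq_one_of_mem ha ⟨⟨a, haK⟩, (QuotientGroup.eq_one_iff _).1 h2, rfl⟩

/-- `C_O(H) = 1`. -/
theorem Hyp.eq_one_of_commute (hH : Hyp p H) {g o : G} (ho : o ∈ pairKer p H g)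
    (hc : ∀ h ∈ H, Commute h o) : o = 1 := by
  refine hH.eq_one_of_mem (hH.mem_of_normalizes (pairKer_le H g ho) ?_) ho
  refine Subgroup.mem_normalizer_iff.2 fun y => ⟨fun hy => ?_, fun hy => ?_⟩
  · rwa [← (hc y hy).eq, mul_inv_cancel_right]
  · have h1 : o * y * o⁻¹ * o = o * (o * y * o⁻¹) := (hc _ hy).eq
    rw [inv_mul_cancel_right, mul_right_inj] at h1
    exact h1 ▸ hy

/-- `gHg⁻¹ = oHo⁻¹` for some `o` in the kernel, so `g ∈ o N(H)`. -/
theorem Hyp.exists_translate (hH : Hyp p H) (g : G) :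
    ∃ o ∈ pairKer p H g, o⁻¹ * g ∈ Subgroup.normalizer (H : Set G) := by
  let K := pairGrp H g
  let H' := H.map (MulAut.conj g).toMonoidHom
  have hidx : ¬ p ∣ (H.subgroupOf K).index := by
    rw [(hH.complement g).index_eq_card]
    intro h
    exact (Fact.out : p.Prime).not_dvd_one
      ((Core.coprime_card_pPrimeCore p K).symm.eq_one_of_dvd h ▸ dvd_rfl)
  let P : Sylow p K := IsPGroup.toSylow
    (hH.pgroup.comap_of_injective K.subtype K.subtype_injective) hidx
  obtain ⟨Q, hQ⟩ := ((hH.pgroup.map (MulAut.conj g).toMonoidHom).comap_of_injective K.subtype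
    K.subtype_injective).exists_le_sylow
  obtain ⟨k, hk⟩ := MulAction.exists_smul_eq K P Q
  obtain ⟨o, ho, h, hh, hko⟩ := hH.decomp' k.2
  refine ⟨o, ho, ?_⟩
  have key : ∀ x ∈ H, (o⁻¹ * g) * x * (o⁻¹ * g)⁻¹ ∈ H := by
    intro x hx
    have h1 : (⟨g * x * g⁻¹, conj_mem_pairGrp hx g⟩ : K) ∈ ((k • P : Sylow p K) : Subgroup K) := by
      rw [hk]
      exact hQ (show g * x * g⁻¹ ∈ H.map (MulAut.conj g).toMonoidHom from ⟨x, hx, rfl⟩)
    rw [Sylow.coe_subgroup_smul] at h1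
    obtain ⟨z, hz, he⟩ := h1
    have he' : (k : G) * (z : G) * (k : G)⁻¹ = g * x * g⁻¹ := congrArg Subtype.val he
    rw [hko] at he'
    have h2 : (o⁻¹ * g) * x * (o⁻¹ * g)⁻¹ = h * (z : G) * h⁻¹ :=
      calc (o⁻¹ * g) * x * (o⁻¹ * g)⁻¹ = o⁻¹ * (g * x * g⁻¹) * o := by group
        _ = h * (z : G) * h⁻¹ := by rw [← he']; group
    rw [h2]
    exact mul_mem (mul_mem hh hz) (inv_mem hh)
  exact Subgroup.mem_normalizer_iff_map_conj_eq.2
    (Subgroup.eq_of_le_of_card_ge (by rintro _ ⟨x, hx, rfl⟩; exact key x hx)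
      (le_of_eq (Subgroup.card_map_of_injective (MulEquiv.injective _)).symm))

/-- Strong closure of `H` in its normaliser. -/
theorem Hyp.mem_of_conj_normalizes (hH : Hyp p H) {g x : G} (hx : x ∈ H)
    (hn : g * x * g⁻¹ ∈ Subgroup.normalizer (H : Set G)) : g * x * g⁻¹ ∈ H :=
  hH.mem_of_normalizes (conj_mem_pairGrp hx g) hn

/-- `e` is the image of `g l g⁻¹` in `H`. -/
def IsImg (p : ℕ) (H : Subgroup G) (g l e : G) : Prop :=
  e ∈ H ∧ (orderOf (e⁻¹ * (g * l * g⁻¹))).Coprime p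

theorem Hyp.exists_img (hH : Hyp p H) (g : G) {l : G} (hl : l ∈ H) :
    ∃ e, IsImg p H g l e ∧ ∃ n ∈ Subgroup.normalizer (H : Set G), e = n * l * n⁻¹ := by
  obtain ⟨o, ho, hn⟩ := hH.exists_translate g
  refine ⟨_, ⟨(Subgroup.mem_normalizer_iff.1 hn l).1 hl, ?_⟩, _, hn, rfl⟩
  set e := (o⁻¹ * g) * l * (o⁻¹ * g)⁻¹ with he
  refine coprime_orderOf_of_mem_pairKer (H := H) (g := g) ?_
  have h1 : e⁻¹ * (g * l * g⁻¹) = (e⁻¹ * o * e) * o⁻¹ := by rw [he]; group
  rw [h1]
  refine mul_mem ?_ (inv_mem ho)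
  have := (Subgroup.mem_normalizer_iff.1 (pairGrp_le_normalizer (p := p) H g
    (mem_sup_left (inv_mem ((Subgroup.mem_normalizer_iff.1 hn l).1 hl)))) o).1 ho
  rwa [inv_inv] at this

theorem Hyp.img_unique (hH : Hyp p H) {g l e e' : G} (hl : l ∈ H) (he : IsImg p H g l e)
    (he' : IsImg p H g l e') : e = e' := by
  have hy := conj_mem_pairGrp hl g
  have h1 : e⁻¹ * (g * l * g⁻¹) ∈ pairKer p H g :=
    hH.mem_pairKer (mul_mem (inv_mem (mem_sup_left he.1)) hy) he.2
  have h2 : e'⁻¹ * (g * l * g⁻¹) ∈ pairKer p H g :=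
    hH.mem_pairKer (mul_mem (inv_mem (mem_sup_left he'.1)) hy) he'.2
  have h3 : e'⁻¹ * e = 1 := hH.eq_one_of_mem (g := g) (mul_mem (inv_mem he'.1) he.1) (by
    have := mul_mem h2 (inv_mem h1)
    simpa [mul_assoc] using this)
  exact (inv_mul_eq_one.1 h3).symm

omit [Fact p.Prime] [Finite G] in
theorem IsImg.conj {g l e n : G} (hn : n ∈ Subgroup.normalizer (H : Set G))
    (he : IsImg p H g l e) : IsImg p H (n * g) l (n * e * n⁻¹) := by
  refine ⟨(Subgroup.mem_normalizer_iff.1 hn e).1 he.1, ?_⟩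
  have : (n * e * n⁻¹)⁻¹ * (n * g * l * (n * g)⁻¹) = MulAut.conj n (e⁻¹ * (g * l * g⁻¹)) := by
    simp [mul_assoc]
  rw [this, MulEquiv.orderOf_eq]
  exact he.2

/-- Fusion in `H` is controlled by the normaliser. -/
theorem Hyp.fusion (hH : Hyp p H) {g l : G} (hl : l ∈ H) (he : g * l * g⁻¹ ∈ H) :
    ∃ n ∈ Subgroup.normalizer (H : Set G), n * l * n⁻¹ = g * l * g⁻¹ := by
  obtain ⟨e, he', n, hn, rfl⟩ := hH.exists_img g hl
  refine ⟨n, hn, hH.img_unique hl he' ⟨he, ?_⟩⟩
  rw [inv_mul_cancel, orderOf_one]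
  exact Nat.coprime_one_left p

/-- Elements of a pair group outside the kernel: `z = c (t w) c⁻¹`. -/
theorem Hyp.section_form (hH : Hyp p H) {g t o : G} (ht : t ∈ H) (ho : o ∈ pairKer p H g) :
    ∃ c ∈ pairKer p H g, ∃ w ∈ pairKer p H g, Commute t w ∧ t * o = c * (t * w) * c⁻¹ := by
  set K := pairGrp H g
  have htK : t ∈ K := mem_sup_left ht
  have hz : t * o ∈ K := mul_mem htK (pairKer_le H g ho)
  obtain ⟨u, v, huv, hc, ⟨i, hi⟩, hv⟩ := Blocks.exists_pPart (Fact.out : p.Prime) (⟨t * o, hz⟩ : K)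
  obtain ⟨Q, hQ⟩ := (IsPGroup.of_card (G := Subgroup.zpowers u) (n := i)
    (by rw [Nat.card_zpowers, hi])).exists_le_sylow
  have hidx : ¬ p ∣ (H.subgroupOf K).index := by
    rw [(hH.complement g).index_eq_card]
    intro h
    exact (Fact.out : p.Prime).not_dvd_one
      ((Core.coprime_card_pPrimeCore p K).symm.eq_one_of_dvd h ▸ dvd_rfl)
  let P : Sylow p K := IsPGroup.toSylow
    (hH.pgroup.comap_of_injective K.subtype K.subtype_injective) hidx
  obtain ⟨k, hk⟩ := MulAction.exists_smul_eq K P Q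
  have h1 : u ∈ ((k • P : Sylow p K) : Subgroup K) := hk ▸ hQ (Subgroup.mem_zpowers u)
  rw [Sylow.coe_subgroup_smul] at h1
  obtain ⟨a, ha, hau⟩ := h1
  obtain ⟨c, hcO, b, hb, hkc⟩ := hH.decomp' k.2
  have haH : (a : G) ∈ H := ha
  have hau' : (u : G) = c * (a : G) * c⁻¹ := by
    have h2 : (k : G) * (a : G) * (k : G)⁻¹ = (u : G) := congrArg Subtype.val hau
    rw [← h2, hkc]
    calc c * b * (a : G) * (c * b)⁻¹ = c * (b * (a : G)) * b⁻¹ * c⁻¹ := by group
      _ = c * ((a : G) * b) * b⁻¹ * c⁻¹ := by rw [(hH.commute hb haH).eq]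
      _ = c * (a : G) * c⁻¹ := by group
  have hvO : (v : G) ∈ pairKer p H g := hH.mem_pairKer v.2
    (((Fact.out : p.Prime).coprime_iff_not_dvd.2 (by rwa [Subgroup.orderOf_coe])).symm)
  have huvG : (u : G) * (v : G) = t * o := congrArg Subtype.val huv
  set w := c⁻¹ * (v : G) * c with hw
  have hwO : w ∈ pairKer p H g := mul_mem (mul_mem (inv_mem hcO) hvO) hcO
  have hN := pairGrp_le_normalizer (p := p) H g
  have hat : (a : G) = t := by
    have h3 : t⁻¹ * (a : G) = o * (v : G)⁻¹ * (c * ((a : G)⁻¹ * c⁻¹ * a)) := by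
      have e : t = c * (a : G) * c⁻¹ * (v : G) * o⁻¹ := by
        rw [← hau', huvG, mul_inv_cancel_right]
      conv_lhs => rw [e]
      group
    have h4 : t⁻¹ * (a : G) ∈ pairKer p H g := by
      rw [h3]
      refine mul_mem (mul_mem ho (inv_mem hvO)) (mul_mem hcO ?_)
      have := (Subgroup.mem_normalizer_iff.1 (hN (inv_mem (mem_sup_left haH : (a : G) ∈ K))) c⁻¹).1
        (inv_mem hcO)
      rwa [inv_inv] at this
    exact (inv_mul_eq_one.1 (hH.eq_one_of_mem (mul_mem (inv_mem ht) haH) h4)).symm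
  refine ⟨c, hcO, w, hwO, ?_, ?_⟩
  · have h5 : Commute (u : G) (v : G) := hc.map K.subtype
    have h6 := h5.map (MulAut.conj c⁻¹).toMonoidHom
    have e1 : (MulAut.conj c⁻¹).toMonoidHom (u : G) = t := by
      rw [← hat, hau']; simp [mul_assoc]
    have e2 : (MulAut.conj c⁻¹).toMonoidHom (v : G) = w := by simp [hw]
    rwa [e1, e2] at h6
  · rw [← huvG, hau', hat, hw]
    group

/-- The inductive conclusion for proper subgroups containing `H`. -/
def LocalFactor (p : ℕ) (H : Subgroup G) : Prop :=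
  ∀ L : Subgroup G, L ≠ ⊤ → H ≤ L →
    L ≤ (L ⊓ Subgroup.normalizer (H : Set G)) ⊔ (pPrimeCore p L).map L.subtype

/-- Under `LocalFactor`, `H O(L)` is normalised by `L`. -/
theorem mem_mul_of_conj (hloc : LocalFactor p H) {L : Subgroup G} (hL : L ≠ ⊤) (hHL : H ≤ L)
    {x h : G} (hx : x ∈ L) (hh : h ∈ H) :
    ∃ h' ∈ H, ∃ o ∈ (pPrimeCore p L).map L.subtype, x * h * x⁻¹ = h' * o := by
  set O := (pPrimeCore p L).map L.subtype with hO
  have hnorm : L ≤ Subgroup.normalizer (O : Set G) := le_normalizer_map_subtype _ _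
  have hle : L ⊓ Subgroup.normalizer (H : Set G) ≤ Subgroup.normalizer (O : Set G) :=
    inf_le_left.trans hnorm
  obtain ⟨n, hn, o, ho, rfl⟩ := (Core.mem_sup_iff_mul hle).1 (hloc L hL hHL hx)
  have hn' := (Subgroup.mem_normalizer_iff.1 hn.2 h).1 hh
  refine ⟨n * h * n⁻¹, hn', n * (h⁻¹ * o * h * o⁻¹) * n⁻¹, ?_, by group⟩
  refine (Subgroup.mem_normalizer_iff.1 (hnorm hn.1) _).1 (mul_mem ?_ (inv_mem ho))
  have := (Subgroup.mem_normalizer_iff.1 (hnorm (hHL (inv_mem hh))) o).1 ho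
  rwa [inv_inv] at this

/-- `C_O(t) ≤ O_{p'}(C(t))`. -/
theorem Hyp.mem_core_centralizer (hH : Hyp p H) (hloc : LocalFactor p H) {g t w : G} (ht : t ∈ H)
    (htop : Subgroup.centralizer ({t} : Set G) ≠ ⊤) (hw : w ∈ pairKer p H g) (hc : Commute t w) :
    w ∈ (pPrimeCore p (Subgroup.centralizer ({t} : Set G))).map
      (Subgroup.centralizer ({t} : Set G)).subtype := by
  set C := Subgroup.centralizer ({t} : Set G) with hC
  have hHC : H ≤ C := fun h hh => Subgroup.mem_centralizer_singleton_iff.2 (hH.commute hh ht).eq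
  set V := (pPrimeCore p C).map C.subtype with hV
  have hwC : w ∈ C := Subgroup.mem_centralizer_singleton_iff.2 hc.eq.symm
  set N := pairKer p H g ⊓ V with hN
  have hK := pairGrp_le_normalizer (p := p) H g
  have hnormV : C ≤ Subgroup.normalizer (V : Set G) := le_normalizer_map_subtype _ _
  have hHN : H ≤ Subgroup.normalizer (N : Set G) := fun h hh =>
    Subgroup.mem_normalizer_iff.2 fun y =>
      ⟨fun hy => ⟨(Subgroup.mem_normalizer_iff.1 (hK (mem_sup_left hh)) y).1 hy.1,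
        (Subgroup.mem_normalizer_iff.1 (hnormV (hHC hh)) y).1 hy.2⟩,
      fun hy => ⟨(Subgroup.mem_normalizer_iff.1 (hK (mem_sup_left hh)) y).2 hy.1,
        (Subgroup.mem_normalizer_iff.1 (hnormV (hHC hh)) y).2 hy.2⟩⟩
  have hfix : ∀ h ∈ H, w⁻¹ * (h * w * h⁻¹) ∈ N := by
    intro h hh
    have hhw := (Subgroup.mem_normalizer_iff.1 (hK (mem_sup_left hh)) w).1 hw
    refine Subgroup.mem_inf.2 ⟨mul_mem (inv_mem hw) hhw, ?_⟩
    obtain ⟨h', hh', o, ho, he⟩ := mem_mul_of_conj hloc htop hHC (inv_mem hwC) hh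
    rw [inv_inv] at he
    have hoK : o ∈ pairGrp H g := by
      rw [show o = h'⁻¹ * (w⁻¹ * h * w) by rw [he]; group]
      exact mul_mem (inv_mem (mem_sup_left hh'))
        (mul_mem (mul_mem (inv_mem (pairKer_le H g hw)) (mem_sup_left hh)) (pairKer_le H g hw))
    have hoO : o ∈ pairKer p H g := hH.mem_pairKer hoK
      ((Core.coprime_card_pPrimeCore p C).coprime_dvd_left (by
        obtain ⟨z, hz, rfl⟩ := ho
        rw [Subgroup.subtype_apply, Subgroup.orderOf_coe]
        exact Subgroup.orderOf_dvd_natCard _ hz))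
    have hhh : h' = h := by
      have h1 : h'⁻¹ * h = o * (w⁻¹ * (h⁻¹ * w * h)) := by
        rw [show o = h'⁻¹ * (w⁻¹ * h * w) by rw [he]; group]
        group
      refine inv_mul_eq_one.1 (hH.eq_one_of_mem (g := g) (mul_mem (inv_mem hh') hh) ?_)
      rw [h1]
      refine mul_mem hoO (mul_mem (inv_mem hw) ?_)
      have := (Subgroup.mem_normalizer_iff.1 (hK (mem_sup_left (inv_mem hh))) w).1 hw
      rwa [inv_inv] at this
    subst hhh
    have h2 : w⁻¹ * (h' * w * h'⁻¹) = h' * o * h'⁻¹ := by rw [← he]; group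
    rw [h2]
    exact (Subgroup.mem_normalizer_iff.1 (hnormV (hHC hh)) o).1 ho
  have hcop : (Nat.card H).Coprime (Nat.card N) := by
    obtain ⟨n, hn⟩ := IsPGroup.iff_card.1 hH.pgroup
    rw [hn]
    exact ((coprime_card_pairKer H g).coprime_dvd_left
      (Subgroup.card_dvd_of_le inf_le_left)).symm.pow_left n
  have hsolv : Group.IsSolvable H := Group.isSolvable_of_comm fun a b => hH.comm.is_comm.comm a b
  obtain ⟨n, hn, hcen⟩ := Core.exists_centralizing_in_coset hHN hcop (Or.inl hsolv) hfix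
  have h1 : w * n = 1 := hH.eq_one_of_commute (mul_mem hw hn.1) fun h hh =>
    (Subgroup.mem_centralizer_iff.1 hcen h hh)
  rw [eq_inv_of_mul_eq_one_left h1]
  exact inv_mem hn.2

end CfsgLib.LocalEvenB.ExtClosed
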