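import Cfsg.Agent.Lib.LocalEvenB.ExtremelyClosed.Pairs
import Cfsg.Agent.Lib.Char.Brauer
import Cfsg.Agent.Lib.Char.Exceptional.Virtual
import Cfsg.Agent.Lib.CharDegree.Twist
import Cfsg.Agent.Lib.OddLocal.FittingHall

/-!
# A virtual character attached to `G = R ⋊ H`

`H` is an abelian `p`-group acting coprimely on `R` such that for every `t ∈ H#` the commutator
`W_t = [C_R(t), H]` is a complement to `C = C_R(H)` in `C_R(t)`.  For a linear character `μ` of `H`
and a character `β` of `C` the function `t y ↦ (μ t - 1) β (c y)` is a generalized character.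
-/

set_option autoImplicit false

namespace CfsgLib.LocalEvenB.ExtClosed

open Cfsg Subgroup
open scoped Classical ComplexConjugate

variable {G : Type*} [Group G]

/-- `C_R(t)`. -/
abbrev centR (R : Subgroup G) (t : G) : Subgroup G := R ⊓ Subgroup.centralizer ({t} : Set G)

/-- `C_R(H)`. -/
abbrev fixR (H R : Subgroup G) : Subgroup G := R ⊓ Subgroup.centralizer (H : Set G)

/-- `c` is the component in `C_R(H)` of `y ∈ C_R(t)`. -/
def SplitRel (H R : Subgroup G) (t y c : G) : Prop :=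
  y ∈ centR R t ∧ c ∈ fixR H R ∧ y * c⁻¹ ∈ ⁅centR R t, H⁆

/-- The configuration `G = R ⋊ H`. -/
structure CoprimeData (p : ℕ) (H R : Subgroup G) : Prop where
  hyp : Hyp p H
  odd : p ≠ 2
  normal : R.Normal
  cop : (Nat.card R).Coprime p
  sup : H ⊔ R = ⊤
  comm_eq : ⁅R, H⁆ = R
  loc : ∀ t ∈ H, t ≠ 1 → ∀ w ∈ ⁅centR R t, H⁆, w ∈ Subgroup.centralizer (H : Set G) → w = 1

namespace CoprimeData

variable {p : ℕ} [Fact p.Prime] {H R : Subgroup G} [Finite G]

theorem coprime_le (hD : CoprimeData p H R) {Z : Subgroup G} (hZ : Z ≤ R) :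
    (Nat.card H).Coprime (Nat.card Z) := by
  obtain ⟨n, hn⟩ := IsPGroup.iff_card.1 hD.hyp.pgroup
  rw [hn]
  exact ((hD.cop.coprime_dvd_left (Subgroup.card_dvd_of_le hZ))).symm.pow_left n

theorem inf_eq_bot (hD : CoprimeData p H R) : H ⊓ R = ⊥ :=
  Subgroup.inf_eq_bot_of_coprime (hD.coprime_le le_rfl)

theorem isComplement (hD : CoprimeData p H R) : Subgroup.IsComplement' H R := by
  have := hD.normal
  exact Subgroup.isComplement'_of_disjoint_and_mul_eq_univ (disjoint_iff.2 hD.inf_eq_bot)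
    (by rw [← Subgroup.mul_normal, hD.sup, Subgroup.coe_top])

theorem not_dvd_index (hD : CoprimeData p H R) : ¬ p ∣ H.index := by
  intro hd
  rw [hD.isComplement.symm.index_eq_card] at hd
  exact ((Fact.out : p.Prime).coprime_iff_not_dvd.1 hD.cop.symm) hd

theorem eq_one_of_mem_both (hD : CoprimeData p H R) {x : G} (h1 : x ∈ H) (h2 : x ∈ R) : x = 1 :=
  (Subgroup.mem_bot).1 (hD.inf_eq_bot ▸ Subgroup.mem_inf.2 ⟨h1, h2⟩)

theorem exists_mul (hD : CoprimeData p H R) (g : G) : ∃ h ∈ H, ∃ r ∈ R, g = h * r := by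
  have := hD.normal
  obtain ⟨h, hh, r, hr, he⟩ := Subgroup.mem_sup_of_normal_right.1
    (hD.sup ▸ Subgroup.mem_top g : g ∈ H ⊔ R)
  exact ⟨h, hh, r, hr, he.symm⟩

theorem exists_mul' (hD : CoprimeData p H R) (g : G) : ∃ r ∈ R, ∃ h ∈ H, g = r * h := by
  obtain ⟨h, hh, r, hr, rfl⟩ := hD.exists_mul g
  exact ⟨h * r * h⁻¹, hD.normal.conj_mem r hr h, h, hh, by group⟩

/-- The projection of `G` onto `H`. -/
noncomputable def proj (hD : CoprimeData p H R) : G →* H :=
  letI := hD.normal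
  MonoidHom.mk' (fun g => (⟨(hD.exists_mul g).choose, (hD.exists_mul g).choose_spec.1⟩ : H))
    fun a b => Subtype.ext <| by
      obtain ⟨ha, r, hr, ea⟩ := (hD.exists_mul a).choose_spec
      obtain ⟨hb, s, hs, eb⟩ := (hD.exists_mul b).choose_spec
      obtain ⟨hab, u, hu, eab⟩ := (hD.exists_mul (a * b)).choose_spec
      set x := (hD.exists_mul a).choose
      set y := (hD.exists_mul b).choose
      set z := (hD.exists_mul (a * b)).choose
      show z = x * y
      have h1 : z⁻¹ * (x * y) = u * (y⁻¹ * r * y * s)⁻¹ := by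
        have e : z * u = x * r * (y * s) := by rw [← ea, ← eb, ← eab]
        rw [show x * y = x * r * (y * s) * (y⁻¹ * r * y * s)⁻¹ by group, ← e]
        group
      refine inv_mul_eq_one.1 (hD.eq_one_of_mem_both (mul_mem (inv_mem hab) (mul_mem ha hb)) ?_)
      rw [h1]
      refine mul_mem hu (inv_mem (mul_mem ?_ hs))
      have := hD.normal.conj_mem r hr y⁻¹
      rwa [inv_inv] at this

theorem proj_inv_mul_mem (hD : CoprimeData p H R) (g : G) : (hD.proj g : G)⁻¹ * g ∈ R := by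
  obtain ⟨-, r, hr, e⟩ := (hD.exists_mul g).choose_spec
  show (hD.exists_mul g).choose⁻¹ * g ∈ R
  have h1 : (hD.exists_mul g).choose⁻¹ * g = r := inv_mul_eq_iff_eq_mul.2 e
  rwa [h1]

theorem proj_eq (hD : CoprimeData p H R) {g : G} {h : H} (hg : (h : G)⁻¹ * g ∈ R) :
    hD.proj g = h := by
  refine Subtype.ext (inv_mul_eq_one.1 (hD.eq_one_of_mem_both
    (mul_mem (inv_mem (hD.proj g).2) h.2) ?_))
  have := mul_mem (hD.proj_inv_mul_mem g) (inv_mem hg)
  simpa [mul_assoc] using this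

theorem proj_of_mem (hD : CoprimeData p H R) (h : H) : hD.proj (h : G) = h :=
  hD.proj_eq (by rw [inv_mul_cancel]; exact one_mem R)

theorem proj_eq_one_iff (hD : CoprimeData p H R) {g : G} : hD.proj g = 1 ↔ g ∈ R := by
  constructor
  · intro h
    have := hD.proj_inv_mul_mem g
    rwa [h, Subgroup.coe_one, inv_one, one_mul] at this
  · intro h
    exact hD.proj_eq (by rwa [Subgroup.coe_one, inv_one, one_mul])

theorem proj_conj (hD : CoprimeData p H R) (a g : G) : hD.proj (a * g * a⁻¹) = hD.proj g := by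
  have hc : hD.proj a * hD.proj g = hD.proj g * hD.proj a :=
    Subtype.ext (hD.hyp.commute (hD.proj a).2 (hD.proj g).2).eq
  rw [map_mul, map_mul, map_inv, hc, mul_inv_cancel_right]

/-- An exponent cutting out the `H`-part. -/
theorem exists_exponent (hD : CoprimeData p H R) :
    ∃ M : ℕ, (∀ t ∈ H, t ^ M = t) ∧ (∀ r ∈ R, r ^ M = 1) ∧
      ∀ g : G, hD.proj (g ^ M) = hD.proj g ∧ (g ^ M) ^ Nat.card H = 1 := by
  obtain ⟨M, hM1, hM2⟩ := Nat.chineseRemainder (hD.coprime_le le_rfl) 1 0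
  have h1 : ∀ t ∈ H, t ^ M = t := fun t ht => by
    conv_rhs => rw [← pow_one t]
    exact pow_eq_pow_iff_modEq.2 (hM1.of_dvd (Subgroup.orderOf_dvd_natCard H ht))
  have hdvd : Nat.card R ∣ M := Nat.modEq_zero_iff_dvd.1 hM2
  have h2 : ∀ r ∈ R, r ^ M = 1 := fun r hr =>
    orderOf_dvd_iff_pow_eq_one.1 ((Subgroup.orderOf_dvd_natCard R hr).trans hdvd)
  refine ⟨M, h1, h2, fun g => ⟨?_, ?_⟩⟩
  · rw [map_pow]
    exact Subtype.ext (by rw [SubmonoidClass.coe_pow]; exact h1 _ (hD.proj g).2)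
  · rw [← pow_mul, Nat.mul_comm, pow_mul]
    refine h2 _ (hD.proj_eq_one_iff.1 ?_)
    rw [map_pow, pow_card_eq_one']

/-- Every element is conjugate to some `t y` with `y ∈ C_R(t)`. -/
theorem exists_form (hD : CoprimeData p H R) (g : G) :
    ∃ k ∈ R, ∃ y ∈ centR R (hD.proj g : G), g = k * ((hD.proj g : G) * y) * k⁻¹ := by
  obtain ⟨M, h1, h2, hM⟩ := hD.exists_exponent
  set u := g ^ M with hu
  obtain ⟨n, hn⟩ := IsPGroup.iff_card.1 hD.hyp.pgroup
  have hzp : IsPGroup p (Subgroup.zpowers u) := by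
    obtain ⟨i, -, hi⟩ := (Nat.dvd_prime_pow (Fact.out : p.Prime)).1
      (hn ▸ orderOf_dvd_iff_pow_eq_one.2 (hM g).2 : orderOf u ∣ p ^ n)
    exact IsPGroup.of_card (by rw [Nat.card_zpowers, hi])
  have hidx := hD.not_dvd_index
  let P : Sylow p G := IsPGroup.toSylow hD.hyp.pgroup hidx
  obtain ⟨Q, hQ⟩ := hzp.exists_le_sylow
  obtain ⟨a, ha⟩ := MulAction.exists_smul_eq G P Q
  have hua : u ∈ ((a • P : Sylow p G) : Subgroup G) := ha ▸ hQ (Subgroup.mem_zpowers u)
  rw [Sylow.coe_subgroup_smul] at hua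
  obtain ⟨t, ht, htu⟩ := hua
  have htu' : a * t * a⁻¹ = u := htu
  obtain ⟨k, hk, b, hb, rfl⟩ := hD.exists_mul' a
  have htH : t ∈ H := ht
  have hbt : b * t * b⁻¹ = t := by rw [(hD.hyp.commute hb htH).eq, mul_inv_cancel_right]
  have hu' : u = k * t * k⁻¹ := by
    rw [← htu', show k * b * t * (k * b)⁻¹ = k * (b * t * b⁻¹) * k⁻¹ by group, hbt]
  have hpu : hD.proj g = ⟨t, htH⟩ := by
    rw [← (hM g).1, ← hu, hu', hD.proj_conj]
    exact hD.proj_of_mem ⟨t, htH⟩
  refine ⟨k, hk, t⁻¹ * (k⁻¹ * g * k), ?_, by rw [hpu]; group⟩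
  rw [hpu]
  refine Subgroup.mem_inf.2 ⟨?_, Subgroup.mem_centralizer_singleton_iff.2 ?_⟩
  · refine hD.proj_eq_one_iff.1 ?_
    rw [map_mul, map_inv]
    have h3 : hD.proj (k⁻¹ * g * k) = hD.proj g := by
      have := hD.proj_conj k⁻¹ g
      rwa [inv_inv] at this
    rw [h3, hpu, hD.proj_of_mem ⟨t, htH⟩, inv_mul_cancel]
  · have hc : Commute u g := by rw [hu]; exact (Commute.refl g).pow_left M
    have hc' : Commute t (k⁻¹ * g * k) := by
      have := hc.map (MulAut.conj k⁻¹).toMonoidHom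
      simpa [hu', mul_assoc] using this
    exact (((Commute.refl t).inv_right.mul_right hc')).eq.symm

/-- The `H`-part of `t y` is `t`. -/
theorem commute_of_conj (hD : CoprimeData p H R) {t y y' z : G} (ht : t ∈ H)
    (hy : y ∈ centR R t) (hy' : y' ∈ centR R t) (he : z * (t * y) * z⁻¹ = t * y') :
    z * t = t * z ∧ z * y * z⁻¹ = y' := by
  obtain ⟨M, h1, h2, -⟩ := hD.exists_exponent
  have hpow : ∀ v ∈ centR R t, (t * v) ^ M = t := fun v hv => by
    have hc : Commute t v := (Subgroup.mem_centralizer_singleton_iff.1 (Subgroup.mem_inf.1 hv).2).symm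
    rw [hc.mul_pow, h1 t ht, h2 v (Subgroup.mem_inf.1 hv).1, mul_one]
  have h3 : z * t * z⁻¹ = t := by
    have := congrArg (· ^ M) he
    simp only [conj_pow] at this
    rwa [hpow y hy, hpow y' hy'] at this
  refine ⟨mul_inv_eq_iff_eq_mul.1 h3, ?_⟩
  rw [show z * (t * y) * z⁻¹ = (z * t * z⁻¹) * (z * y * z⁻¹) by group, h3] at he
  exact mul_left_cancel he

theorem le_normalizer_centR (hD : CoprimeData p H R) {t : G} (ht : t ∈ H) :
    H ≤ Subgroup.normalizer ((centR R t) : Set G) := by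
  have key : ∀ h ∈ H, ∀ y ∈ centR R t, h * y * h⁻¹ ∈ centR R t := fun h hh y hy => by
    refine Subgroup.mem_inf.2 ⟨hD.normal.conj_mem y (Subgroup.mem_inf.1 hy).1 h, ?_⟩
    have hhC : h ∈ Subgroup.centralizer ({t} : Set G) :=
      Subgroup.mem_centralizer_singleton_iff.2 (hD.hyp.commute hh ht).eq
    exact mul_mem (mul_mem hhC (Subgroup.mem_inf.1 hy).2) (inv_mem hhC)
  intro h hh
  refine Subgroup.mem_normalizer_iff.2 fun y => ⟨key h hh y, fun hy => ?_⟩
  have := key h⁻¹ (inv_mem hh) _ hy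
  simpa [mul_assoc] using this

theorem fixR_le_centR (_hD : CoprimeData p H R) {t : G} (ht : t ∈ H) : fixR H R ≤ centR R t :=
  fun c hc => Subgroup.mem_inf.2 ⟨(Subgroup.mem_inf.1 hc).1,
    Subgroup.mem_centralizer_singleton_iff.2
      (Subgroup.mem_centralizer_iff.1 (Subgroup.mem_inf.1 hc).2 t ht).symm⟩

theorem exists_component (hD : CoprimeData p H R) {Z : Subgroup G} (hZ : Z ≤ R)
    (hHZ : H ≤ Subgroup.normalizer (Z : Set G)) {z : G} (hz : z ∈ Z) :
    ∃ c ∈ fixR H R, z * c⁻¹ ∈ ⁅Z, H⁆ := by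
  obtain ⟨u, hu, c, hc, rfl⟩ := Core.exists_mul_centralizing hHZ (hD.coprime_le hZ)
    (Or.inl (Group.isSolvable_of_comm fun a b => hD.hyp.comm.is_comm.comm a b)) hz
  exact ⟨c, Subgroup.mem_inf.2 ⟨hZ (Subgroup.mem_inf.1 hc).1, (Subgroup.mem_inf.1 hc).2⟩,
    by rwa [mul_inv_cancel_right]⟩

theorem exists_rel (hD : CoprimeData p H R) {t y : G} (ht : t ∈ H) (hy : y ∈ centR R t) :
    ∃ c, SplitRel H R t y c := by
  obtain ⟨c, hc, h⟩ := hD.exists_component inf_le_left (hD.le_normalizer_centR ht) hy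
  exact ⟨c, hy, hc, h⟩

theorem rel_unique (hD : CoprimeData p H R) {t y c c' : G} (ht : t ∈ H) (ht1 : t ≠ 1)
    (h : SplitRel H R t y c) (h' : SplitRel H R t y c') : c = c' := by
  have h1 : c * c'⁻¹ ∈ ⁅centR R t, H⁆ := by
    have := mul_mem (inv_mem h.2.2) h'.2.2
    simpa [mul_assoc] using this
  exact mul_inv_eq_one.1 (hD.loc t ht ht1 _ h1
    (mul_mem (Subgroup.mem_inf.1 h.2.1).2 (inv_mem (Subgroup.mem_inf.1 h'.2.1).2)))

theorem rel_mul (_hD : CoprimeData p H R) {t y y' c c' : G} (h : SplitRel H R t y c)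
    (h' : SplitRel H R t y' c') : SplitRel H R t (y * y') (c * c') := by
  refine ⟨mul_mem h.1 h'.1, mul_mem h.2.1 h'.2.1, ?_⟩
  have hn : y ∈ Subgroup.normalizer ((⁅centR R t, H⁆ : Subgroup G) : Set G) :=
    Core.le_normalizer_commutator_self H (centR R t) (mem_sup_left h.1)
  have h1 := (Subgroup.mem_normalizer_iff.1 hn (y' * c'⁻¹)).1 h'.2.2
  rw [show y * y' * (c * c')⁻¹ = y * (y' * c'⁻¹) * y⁻¹ * (y * c⁻¹) by group]
  exact mul_mem h1 h.2.2

theorem rel_of_fixR (hD : CoprimeData p H R) {t c : G} (ht : t ∈ H) (hc : c ∈ fixR H R) :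
    SplitRel H R t c c :=
  ⟨hD.fixR_le_centR ht hc, hc, by rw [mul_inv_cancel]; exact one_mem _⟩

theorem rel_conj_mem (hD : CoprimeData p H R) {t y c h : G} (ht : t ∈ H) (hh : h ∈ H)
    (hr : SplitRel H R t y c) : SplitRel H R t (h * y * h⁻¹) c := by
  refine ⟨(Subgroup.mem_normalizer_iff.1 (hD.le_normalizer_centR ht hh) y).1 hr.1, hr.2.1, ?_⟩
  have hn : h ∈ Subgroup.normalizer ((⁅centR R t, H⁆ : Subgroup G) : Set G) :=
    Core.le_normalizer_commutator_self H (centR R t) (mem_sup_right hh)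
  have h1 := (Subgroup.mem_normalizer_iff.1 hn _).1 hr.2.2
  have hc : h⁻¹ * c = c * h⁻¹ :=
    Subgroup.mem_centralizer_iff.1 (Subgroup.mem_inf.1 hr.2.1).2 _ (inv_mem hh)
  rwa [show h * (y * c⁻¹) * h⁻¹ = h * y * h⁻¹ * c⁻¹ by
    rw [show h * (y * c⁻¹) * h⁻¹ = h * y * (c⁻¹ * h⁻¹) by group]
    have hc' : c⁻¹ * h⁻¹ = h⁻¹ * c⁻¹ := by
      have := congrArg (fun x => c⁻¹ * x * c⁻¹) hc
      simpa [mul_assoc] using this
    rw [hc', ← mul_assoc]] at h1

/-- Conjugate elements have conjugate components. -/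
theorem rel_conj (hD : CoprimeData p H R) {t y y' c c' a : G} (ht : t ∈ H) (ht1 : t ≠ 1)
    (h : SplitRel H R t y c) (h' : SplitRel H R t y' c') (he : a * (t * y) * a⁻¹ = t * y') :
    ∃ d ∈ fixR H R, c' = d * c * d⁻¹ := by
  obtain ⟨hat, hay⟩ := hD.commute_of_conj ht h.1 h'.1 he
  obtain ⟨r, hr, b, hb, rfl⟩ := hD.exists_mul' a
  have hrC : r ∈ centR R t := by
    refine Subgroup.mem_inf.2 ⟨hr, Subgroup.mem_centralizer_singleton_iff.2 ?_⟩
    rw [mul_assoc, (hD.hyp.commute hb ht).eq, ← mul_assoc, ← mul_assoc] at hat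
    exact mul_right_cancel hat
  obtain ⟨d, hd⟩ := hD.exists_rel ht hrC
  obtain ⟨e, he'⟩ := hD.exists_rel ht (inv_mem hrC)
  have hde : d * e = 1 := by
    have h1 := hD.rel_mul hd he'
    rw [mul_inv_cancel] at h1
    exact hD.rel_unique ht ht1 h1 (hD.rel_of_fixR ht (one_mem _))
  refine ⟨d, hd.2.1, hD.rel_unique ht ht1 h' ?_⟩
  rw [← hay, show r * b * y * (r * b)⁻¹ = r * (b * y * b⁻¹) * r⁻¹ by group,
    show d⁻¹ = e from inv_eq_of_mul_eq_one_right hde]
  exact hD.rel_mul (hD.rel_mul hd (hD.rel_conj_mem ht hb h)) he'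

/-- The virtual character `Ψ`. -/
noncomputable def psi (hD : CoprimeData p H R) (μ : H →* ℂˣ) (β : fixR H R → ℂ) (g : G) : ℂ :=
  ((μ (hD.proj g) : ℂ) - 1) * β ⟨((hD.exists_rel (hD.proj g).2
    (hD.exists_form g).choose_spec.2.choose_spec.1)).choose,
    ((hD.exists_rel (hD.proj g).2
    (hD.exists_form g).choose_spec.2.choose_spec.1)).choose_spec.2.1⟩

variable {μ : H →* ℂˣ} {β : fixR H R → ℂ}

theorem psi_eq_zero (hD : CoprimeData p H R) {g : G} (hg : g ∈ R) : hD.psi μ β g = 0 := by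
  simp [psi, hD.proj_eq_one_iff.2 hg]

theorem proj_form (hD : CoprimeData p H R) (k : G) (t : H) {y : G} (hy : y ∈ R) :
    hD.proj (k * ((t : G) * y) * k⁻¹) = t := by
  rw [hD.proj_conj]
  exact hD.proj_eq (by rwa [inv_mul_cancel_left])

theorem psi_eq (hD : CoprimeData p H R) (hβ : IsClassFunction (fixR H R) β) (k : G) (t : H)
    {y c : G} (hc : c ∈ fixR H R) (hr : SplitRel H R (t : G) y c) :
    hD.psi μ β (k * ((t : G) * y) * k⁻¹) = ((μ t : ℂ) - 1) * β ⟨c, hc⟩ := by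
  set g := k * ((t : G) * y) * k⁻¹ with hg
  have hproj : hD.proj g = t := hD.proj_form k t (Subgroup.mem_inf.1 hr.1).1
  by_cases ht : t = 1
  · simp [psi, hproj, ht]
  set y₀ := (hD.exists_form g).choose_spec.2.choose
  set k₀ := (hD.exists_form g).choose
  obtain ⟨hy₀, he⟩ := (hD.exists_form g).choose_spec.2.choose_spec
  set c₀ := (hD.exists_rel (hD.proj g).2 hy₀).choose
  have hr₀ : SplitRel H R (hD.proj g : G) y₀ c₀ := (hD.exists_rel (hD.proj g).2 hy₀).choose_spec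
  show ((μ (hD.proj g) : ℂ) - 1) * β ⟨c₀, _⟩ = _
  rw [hproj] at hr₀ ⊢
  have he' : g = k₀ * ((t : G) * y₀) * k₀⁻¹ := by rw [← hproj]; exact he
  have hconj : (k₀⁻¹ * k) * ((t : G) * y) * (k₀⁻¹ * k)⁻¹ = (t : G) * y₀ := by
    rw [show k₀⁻¹ * k * ((t : G) * y) * (k₀⁻¹ * k)⁻¹ = k₀⁻¹ * g * k₀ by rw [hg]; group, he']
    group
  obtain ⟨d, hd, hcd⟩ := hD.rel_conj t.2 (fun h => ht (Subtype.ext h)) hr hr₀ hconj
  congr 1
  have : (⟨c₀, hr₀.2.1⟩ : fixR H R) = ⟨d, hd⟩ * ⟨c, hc⟩ * (⟨d, hd⟩ : fixR H R)⁻¹ :=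
    Subtype.ext hcd
  rw [this]
  exact hβ ⟨c, hc⟩ ⟨d, hd⟩

theorem exists_form_rel (hD : CoprimeData p H R) (g : G) :
    ∃ k ∈ R, ∃ y c, SplitRel H R (hD.proj g : G) y c ∧ g = k * ((hD.proj g : G) * y) * k⁻¹ := by
  obtain ⟨k, hk, y, hy, he⟩ := hD.exists_form g
  obtain ⟨c, hc⟩ := hD.exists_rel (hD.proj g).2 hy
  exact ⟨k, hk, y, c, hc, he⟩

theorem psi_isClassFunction (hD : CoprimeData p H R) (hβ : IsClassFunction (fixR H R) β) :
    IsClassFunction G (hD.psi μ β) := by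
  intro x a
  obtain ⟨k, -, y, c, hr, he⟩ := hD.exists_form_rel x
  rw [he, show a * (k * ((hD.proj x : G) * y) * k⁻¹) * a⁻¹ =
    (a * k) * ((hD.proj x : G) * y) * (a * k)⁻¹ by group,
    hD.psi_eq hβ (a * k) _ hr.2.1 hr, hD.psi_eq hβ k _ hr.2.1 hr]

/-- `Ψ` is a generalized character. -/
theorem psi_isGen (hD : CoprimeData p H R) (hβ : IsCharacter (fixR H R) β) :
    IsGeneralizedCharacter G (hD.psi μ β) := by
  have : Fintype G := Fintype.ofFinite G
  have hcl := Char.IsChar.isClassFunction hβ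
  refine Brauer.isGeneralizedCharacter_of_elementary (hD.psi_isClassFunction hcl)
    fun E q hq hE => ?_
  have hnil : Group.IsNilpotent E := Brauer.isNilpotent_of_isElementary hq hE
  by_cases htriv : ∀ e : E, (e : G) ∈ R
  · rw [show (fun e : E => hD.psi μ β (e : G)) = 0 from funext fun e => hD.psi_eq_zero (htriv e)]
    exact Char.Exceptional.isGen_zero
  push Not at htriv
  obtain ⟨e₀, he₀⟩ := htriv
  obtain ⟨M, h1, h2, hM⟩ := hD.exists_exponent
  -- the `p`-part of `E` lies in a conjugate of `H`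
  obtain ⟨n, hn⟩ := IsPGroup.iff_card.1 hD.hyp.pgroup
  let S : Sylow p E := default
  have hSn : (S : Subgroup E).Normal := Sylow.normal_of_normalizerCondition
    (Group.normalizerCondition_of_isNilpotent (G := E)) S
  have huniq : ∀ T : Sylow p E, T = S := fun T => by
    obtain ⟨a, ha⟩ := MulAction.exists_smul_eq E S T
    rw [← ha, Sylow.smul_eq_iff_mem_normalizer]
    show a ∈ Subgroup.normalizer ((S : Subgroup E) : Set E)
    rw [Subgroup.normalizer_eq_top]
    exact Subgroup.mem_top a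
  have hmemS : ∀ e : E, e ^ M ∈ (S : Subgroup E) := fun e => by
    obtain ⟨i, -, hi⟩ := (Nat.dvd_prime_pow (Fact.out : p.Prime)).1
      (hn ▸ orderOf_dvd_iff_pow_eq_one.2 (show (e ^ M) ^ Nat.card H = 1 from
        Subtype.ext (by simpa using (hM (e : G)).2)) : orderOf (e ^ M) ∣ p ^ n)
    obtain ⟨T, hT⟩ := (IsPGroup.of_card (G := Subgroup.zpowers (e ^ M)) (n := i)
      (by rw [Nat.card_zpowers, hi])).exists_le_sylow
    exact huniq T ▸ hT (Subgroup.mem_zpowers _)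
  have hidx := hD.not_dvd_index
  obtain ⟨Q, hQ⟩ := (S.isPGroup'.map E.subtype).exists_le_sylow
  obtain ⟨k, hk⟩ := MulAction.exists_smul_eq G (IsPGroup.toSylow hD.hyp.pgroup hidx) Q
  have hpow : ∀ e : E, k⁻¹ * (e : G) ^ M * k = (hD.proj (e : G) : G) := fun e => by
    have h5 : (e : G) ^ M ∈ ((k • IsPGroup.toSylow hD.hyp.pgroup hidx : Sylow p G) : Subgroup G) :=
      hk ▸ hQ ⟨e ^ M, hmemS e, by simp⟩
    rw [Sylow.coe_subgroup_smul] at h5
    obtain ⟨t, ht, hte⟩ := h5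
    have hte' : k * t * k⁻¹ = (e : G) ^ M := hte
    have htH : t ∈ H := ht
    rw [← hte', show k⁻¹ * (k * t * k⁻¹) * k = t by group, ← (hM (e : G)).1, ← hte', hD.proj_conj,
      hD.proj_of_mem ⟨t, htH⟩]
  -- the `p'`-part
  let r : E → G := fun e => (hD.proj (e : G) : G)⁻¹ * (k⁻¹ * (e : G) * k)
  have hrR : ∀ e, r e ∈ R := fun e => by
    refine hD.proj_eq_one_iff.1 ?_
    simp only [r, map_mul, map_inv]
    rw [hD.proj_of_mem]
    have := hD.proj_conj k⁻¹ (e : G)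
    rw [map_mul, map_mul, map_inv, inv_inv] at this
    rw [this, inv_mul_cancel]
  have hrC : ∀ e e' : E, Commute (hD.proj (e' : G) : G) (r e) := fun e e' => by
    have he : r e = k⁻¹ * (((e ^ M)⁻¹ * e : E) : G) * k := by
      show (hD.proj (e : G) : G)⁻¹ * (k⁻¹ * (e : G) * k) = _
      rw [← hpow e]
      push_cast
      group
    rw [← hpow e', he]
    have hcop : (orderOf (e' ^ M)).Coprime (orderOf ((e ^ M)⁻¹ * e)) := by
      refine (hD.coprime_le le_rfl).coprime_dvd_left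
        (orderOf_dvd_iff_pow_eq_one.2 (Subtype.ext (by simpa using (hM (e' : G)).2)))
        |>.coprime_dvd_right ?_
      rw [← Subgroup.orderOf_coe]
      refine Subgroup.orderOf_dvd_natCard R (hD.proj_eq_one_iff.1 ?_)
      push_cast
      rw [map_mul, map_inv, (hM (e : G)).1, inv_mul_cancel]
    have hc : Commute ((e' ^ M : E) : G) (((e ^ M)⁻¹ * e : E) : G) :=
      (OddLocal.commute_of_coprime_orderOf hnil hcop).map E.subtype
    have := hc.map (MulAut.conj k⁻¹).toMonoidHom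
    simpa [mul_assoc] using this
  let P₀ : Subgroup G := ((hD.proj.comp E.subtype).range).map H.subtype
  set Z := R ⊓ Subgroup.centralizer (P₀ : Set G) with hZ
  have hP₀H : P₀ ≤ H := Subgroup.map_subtype_le _
  have hHZ : H ≤ Subgroup.normalizer (Z : Set G) := by
    have key : ∀ h ∈ H, ∀ z ∈ Z, h * z * h⁻¹ ∈ Z := fun h hh z hz => by
      have hhC : h ∈ Subgroup.centralizer (P₀ : Set G) := Subgroup.mem_centralizer_iff.2
        fun a ha => (hD.hyp.commute (hP₀H ha) hh).eq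
      exact Subgroup.mem_inf.2 ⟨hD.normal.conj_mem z (Subgroup.mem_inf.1 hz).1 h,
        mul_mem (mul_mem hhC (Subgroup.mem_inf.1 hz).2) (inv_mem hhC)⟩
    intro h hh
    refine Subgroup.mem_normalizer_iff.2 fun y => ⟨key h hh y, fun hy => ?_⟩
    have := key h⁻¹ (inv_mem hh) _ hy
    simpa [mul_assoc] using this
  have hZt : ∀ e : E, Z ≤ centR R (hD.proj (e : G) : G) := fun e z hz =>
    Subgroup.mem_inf.2 ⟨(Subgroup.mem_inf.1 hz).1, Subgroup.mem_centralizer_singleton_iff.2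
      (Subgroup.mem_centralizer_iff.1 (Subgroup.mem_inf.1 hz).2 _ ⟨_, ⟨e, rfl⟩, rfl⟩).symm⟩
  have hrZ : ∀ e, r e ∈ Z := fun e => Subgroup.mem_inf.2 ⟨hrR e, Subgroup.mem_centralizer_iff.2 (by
    rintro _ ⟨_, ⟨e', rfl⟩, rfl⟩
    exact (hrC e e').eq)⟩
  choose f hf hfW using fun e => hD.exists_component inf_le_left hHZ (hrZ e)
  have hrel : ∀ e e' : E, SplitRel H R (hD.proj (e' : G) : G) (r e) (f e) := fun e e' =>
    ⟨hZt e' (hrZ e), hf e, Subgroup.commutator_mono (hZt e') le_rfl (hfW e)⟩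
  have ht₀ : (hD.proj (e₀ : G) : G) ≠ 1 := fun h =>
    he₀ (hD.proj_eq_one_iff.1 (Subtype.ext h))
  have hrmul : ∀ e e' : E, r (e * e') = r e * r e' := fun e e' => by
    show (hD.proj ((e * e' : E) : G) : G)⁻¹ * (k⁻¹ * ((e * e' : E) : G) * k) = _
    rw [Subgroup.coe_mul, map_mul, Subgroup.coe_mul]
    calc ((hD.proj (e : G) : G) * (hD.proj (e' : G) : G))⁻¹ * (k⁻¹ * ((e : G) * (e' : G)) * k)
        = (hD.proj (e' : G) : G)⁻¹ * r e * (k⁻¹ * (e' : G) * k) := by simp only [r]; group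
      _ = r e * (hD.proj (e' : G) : G)⁻¹ * (k⁻¹ * (e' : G) * k) := by
        rw [(hrC e e').inv_left.eq]
      _ = r e * r e' := by simp only [r]; group
  let φ : E →* fixR H R := MonoidHom.mk' (fun e => ⟨f e, hf e⟩) fun e e' => Subtype.ext <| by
    refine hD.rel_unique (hD.proj (e₀ : G)).2 ht₀ (hrel (e * e') e₀) ?_
    rw [hrmul]
    exact hD.rel_mul (hrel e e₀) (hrel e' e₀)
  have heq : (fun e : E => hD.psi μ β (e : G)) =
      ((fun e : E => ((μ.comp (hD.proj.comp E.subtype)) e : ℂ)) - fun _ => (1 : ℂ)) *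
        fun e => β (φ e) := by
    funext e
    have hform : (e : G) = k * ((hD.proj (e : G) : G) * r e) * k⁻¹ := by simp only [r]; group
    conv_lhs => rw [hform]
    rw [hD.psi_eq hcl k _ (hf e) (hrel e e)]
    rfl
  rw [heq]
  exact Char.Exceptional.IsGen.mul (Char.Exceptional.IsGen.sub
    (Char.Exceptional.IsGen.of_irr (Char.isIrrCharacter_linear _)) Char.Exceptional.isGen_one)
    (Char.Exceptional.IsGen.of_char (Char.IsChar.comp φ hβ))

/-- The sum over a coset of `R`. -/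
theorem sum_fibre [Fintype G] (hD : CoprimeData p H R) (hβ : IsIrrCharacter (fixR H R) β) (t : H) :
    ∑ g ∈ Finset.univ.filter (fun g => hD.proj g = t), hD.psi μ β g * conj (hD.psi μ β g) =
      (Nat.card R : ℂ) * (((μ t : ℂ) - 1) * conj ((μ t : ℂ) - 1)) := by
  have hcl := Char.IsChar.isClassFunction (Char.IsIrr.isCharacter hβ)
  by_cases ht : t = 1
  · subst ht
    rw [Finset.sum_eq_zero fun g hg => by
      rw [hD.psi_eq_zero (hD.proj_eq_one_iff.1 (Finset.mem_filter.1 hg).2), zero_mul]]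
    simp
  have ht1 : (t : G) ≠ 1 := fun h => ht (Subtype.ext h)
  set S := centR R (t : G) with hS
  set W := ⁅S, H⁆ with hW
  set F := fun g => hD.psi μ β g * conj (hD.psi μ β g) with hF
  let Φ : R × S → G := fun x => (x.1 : G) * ((t : G) * (x.2 : G)) * (x.1 : G)⁻¹
  have hmaps : ∀ x ∈ (Finset.univ : Finset (R × S)),
      Φ x ∈ Finset.univ.filter (fun g => hD.proj g = t) := fun x _ =>
    Finset.mem_filter.2 ⟨Finset.mem_univ _, hD.proj_form _ t (Subgroup.mem_inf.1 x.2.2).1⟩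
  have hfib : ∀ g ∈ Finset.univ.filter (fun g => hD.proj g = t),
      ((Finset.univ : Finset (R × S)).filter fun x => Φ x = g).card = Nat.card S := by
    intro g hg
    obtain ⟨x₀, hx₀, y₀, hy₀, he⟩ := hD.exists_form g
    rw [(Finset.mem_filter.1 hg).2] at hy₀ he
    rw [Nat.card_eq_fintype_card, ← Finset.card_univ]
    refine (Finset.card_bij (fun (z : S) _ => ((⟨x₀ * (z : G)⁻¹,
      mul_mem hx₀ (inv_mem (Subgroup.mem_inf.1 z.2).1)⟩ : R),
      z * ⟨y₀, hy₀⟩ * z⁻¹)) ?_ ?_ ?_).symm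
    · intro z _
      refine Finset.mem_filter.2 ⟨Finset.mem_univ _, ?_⟩
      have hz : (z : G) * (t : G) = (t : G) * z :=
        Subgroup.mem_centralizer_singleton_iff.1 (Subgroup.mem_inf.1 z.2).2
      rw [he]
      simp only [Φ, Subgroup.coe_mul, Subgroup.coe_inv]
      calc x₀ * (z : G)⁻¹ * ((t : G) * ((z : G) * y₀ * (z : G)⁻¹)) * (x₀ * (z : G)⁻¹)⁻¹
          = x₀ * (z : G)⁻¹ * ((t : G) * (z : G)) * y₀ * x₀⁻¹ := by group
        _ = _ := by rw [← hz]; group
    · intro a _ b _ hab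
      have := congrArg (fun x : R × S => (x.1 : G)) hab
      exact Subtype.ext (inv_injective (mul_left_cancel this))
    · rintro ⟨x, y⟩ hx
      have hxe : (x : G) * ((t : G) * (y : G)) * (x : G)⁻¹ = g := (Finset.mem_filter.1 hx).2
      have hz := hD.commute_of_conj t.2 hy₀ y.2 (z := (x : G)⁻¹ * x₀) (by
        rw [show (x : G)⁻¹ * x₀ * ((t : G) * y₀) * ((x : G)⁻¹ * x₀)⁻¹ =
          (x : G)⁻¹ * (x₀ * ((t : G) * y₀) * x₀⁻¹) * (x : G) by group, ← he, ← hxe]
        group)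
      refine ⟨⟨(x : G)⁻¹ * x₀, Subgroup.mem_inf.2 ⟨mul_mem (inv_mem x.2) hx₀,
        Subgroup.mem_centralizer_singleton_iff.2 hz.1⟩⟩, Finset.mem_univ _, ?_⟩
      refine Prod.ext (Subtype.ext ?_) (Subtype.ext hz.2)
      show x₀ * ((x : G)⁻¹ * x₀)⁻¹ = (x : G)
      group
  -- the two ways of counting
  choose c hc using fun y : S => hD.exists_rel t.2 y.2
  have hval : ∀ x : R × S, F (Φ x) = ((μ t : ℂ) - 1) * conj ((μ t : ℂ) - 1) *
      (β ⟨c x.2, (hc x.2).2.1⟩ * conj (β ⟨c x.2, (hc x.2).2.1⟩)) := fun x => by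
    simp only [hF, Φ, hD.psi_eq hcl _ t (hc x.2).2.1 (hc x.2), map_mul]
    ring
  have hWS : W ≤ S := Core.commutator_le_of_normalizes (hD.le_normalizer_centR t.2)
  have hbij : Function.Bijective (fun x : W × fixR H R =>
      (⟨(x.1 : G) * (x.2 : G), mul_mem (hWS x.1.2) (hD.fixR_le_centR t.2 x.2.2)⟩ : S)) := by
    have hrel : ∀ x : W × fixR H R, SplitRel H R (t : G) ((x.1 : G) * (x.2 : G)) (x.2 : G) :=
      fun x => ⟨mul_mem (hWS x.1.2) (hD.fixR_le_centR t.2 x.2.2), x.2.2,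
        by rw [mul_inv_cancel_right]; exact x.1.2⟩
    constructor
    · intro a b hab
      have h1 : (a.1 : G) * (a.2 : G) = (b.1 : G) * (b.2 : G) := congrArg Subtype.val hab
      have h2 : (a.2 : G) = b.2 := hD.rel_unique t.2 ht1 (hrel a) (h1 ▸ hrel b)
      rw [h2] at h1
      exact Prod.ext (Subtype.ext (mul_right_cancel h1)) (Subtype.ext h2)
    · intro y
      exact ⟨(⟨_, (hc y).2.2⟩, ⟨c y, (hc y).2.1⟩), Subtype.ext (inv_mul_cancel_right _ _)⟩
  have hβsum : ∑ d : fixR H R, β d * conj (β d) = (Nat.card (fixR H R) : ℂ) := by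
    have h := (Char.isIrr_iff_classInner_eq_one.1 hβ).2
    rw [classInner, inv_mul_eq_iff_eq_mul₀ (Nat.cast_ne_zero.2 Nat.card_pos.ne'), mul_one] at h
    exact h
  have hSsum : ∑ y : S, β ⟨c y, (hc y).2.1⟩ * conj (β ⟨c y, (hc y).2.1⟩) = (Nat.card S : ℂ) := by
    rw [← (Equiv.ofBijective _ hbij).sum_comp, Fintype.sum_prod_type]
    have hcx : ∀ (w : W) (d : fixR H R), (⟨c (Equiv.ofBijective _ hbij (w, d)),
        (hc _).2.1⟩ : fixR H R) = d := fun w d => by
      refine Subtype.ext (hD.rel_unique t.2 ht1 (hc _) ?_)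
      exact ⟨(Equiv.ofBijective _ hbij (w, d)).2, d.2, by
        show (w : G) * (d : G) * (d : G)⁻¹ ∈ _
        rw [mul_inv_cancel_right]; exact w.2⟩
    simp only [hcx, hβsum, Finset.sum_const, Finset.card_univ, nsmul_eq_mul]
    rw [← Nat.card_congr (Equiv.ofBijective _ hbij), Nat.card_prod, Nat.card_eq_fintype_card]
    push_cast
    rw [Nat.card_eq_fintype_card]
  have hkey : (Nat.card S : ℂ) * ∑ g ∈ Finset.univ.filter (fun g => hD.proj g = t), F g =
      (Nat.card R : ℂ) * (((μ t : ℂ) - 1) * conj ((μ t : ℂ) - 1) * (Nat.card S : ℂ)) := by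
    calc _ = ∑ g ∈ Finset.univ.filter (fun g => hD.proj g = t),
          ∑ x ∈ (Finset.univ : Finset (R × S)).filter (fun x => Φ x = g), F (Φ x) := by
          rw [Finset.mul_sum]
          refine Finset.sum_congr rfl fun g hg => ?_
          rw [Finset.sum_congr rfl (g := fun _ => F g) fun x hx => by
            rw [(Finset.mem_filter.1 hx).2], Finset.sum_const, hfib g hg, nsmul_eq_mul]
      _ = ∑ x : R × S, F (Φ x) := Finset.sum_fiberwise_of_maps_to hmaps _
      _ = _ := by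
          simp only [hval]
          rw [Fintype.sum_prod_type]
          simp only [← Finset.mul_sum, hSsum, Finset.sum_const, Finset.card_univ, nsmul_eq_mul]
          rw [← Nat.card_eq_fintype_card]
          ring
  have hS0 : (Nat.card S : ℂ) ≠ 0 := Nat.cast_ne_zero.2 Nat.card_pos.ne'
  refine mul_left_cancel₀ hS0 (hkey.trans ?_)
  ring

/-- Weighted norm of `Ψ`. -/
theorem classInner_psi [Fintype G] (hD : CoprimeData p H R) (hβ : IsIrrCharacter (fixR H R) β)
    (ν : H →* ℂˣ) :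
    (Nat.card H : ℂ) * classInner (hD.psi μ β) (fun g => hD.psi μ β g * (ν (hD.proj g) : ℂ)) =
      ∑ t : H, ((μ t : ℂ) - 1) * conj ((μ t : ℂ) - 1) * conj (ν t : ℂ) := by
  have hcard : Nat.card G = Nat.card H * Nat.card R := hD.isComplement.card_mul_card.symm
  have hR : (Nat.card R : ℂ) ≠ 0 := Nat.cast_ne_zero.2 Nat.card_pos.ne'
  have hH : (Nat.card H : ℂ) ≠ 0 := Nat.cast_ne_zero.2 Nat.card_pos.ne'
  rw [classInner, ← Finset.sum_fiberwise Finset.univ hD.proj, hcard]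
  have hstep : ∀ t : H, ∑ g ∈ Finset.univ.filter (fun g => hD.proj g = t),
      hD.psi μ β g * conj (hD.psi μ β g * (ν (hD.proj g) : ℂ)) =
      (Nat.card R : ℂ) * (((μ t : ℂ) - 1) * conj ((μ t : ℂ) - 1) * conj (ν t : ℂ)) := fun t => by
    rw [← mul_assoc, ← hD.sum_fibre hβ t, Finset.sum_mul]
    refine Finset.sum_congr rfl fun g hg => ?_
    rw [(Finset.mem_filter.1 hg).2, map_mul]
    ring
  simp only [hstep, ← Finset.mul_sum]
  push_cast
  field_simp

end CoprimeData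

end CfsgLib.LocalEvenB.ExtClosed
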